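import Cfsg.Agent.S1853
import Cfsg.Agent.S0201
import Cfsg.Agent.S0219
import Cfsg.Agent.S0514
import Cfsg.Agent.PGroups.MaxClass
import Cfsg.Agent.PGroups.TwoGroups
import Cfsg.Agent.H39.SemiDihedral
import Cfsg.Agent.H65.FourCount

/-!
Simple groups with an element of even order and centraliser of order four: the Sylow two-subgroup,
fusion of involutions, and the core of the centraliser of an involution.
-/

set_option autoImplicit false
set_option linter.unusedSectionVars false
set_option linter.style.haveILetI false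

namespace Cfsg.Agent.H83.SmallCent

open Subgroup

universe u

abbrev C2 := Multiplicative (ZMod 2)

theorem c2_cases : ∀ a : C2, a = 1 ∨ a = Multiplicative.ofAdd 1 := by decide

theorem c2_sq : ∀ a : C2, a * a = 1 := by decide

open scoped Classical in
/-- The sign attached to a subgroup of index two. -/
noncomputable def signHom {S : Type*} [Group S] (K : Subgroup S) (hK : K.index = 2) : S →* C2 where
  toFun g := if g ∈ K then 1 else Multiplicative.ofAdd 1
  map_one' := if_pos K.one_mem
  map_mul' := by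
    intro a b
    have h := Subgroup.mul_mem_iff_of_index_two hK (a := a) (b := b)
    by_cases ha : a ∈ K <;> by_cases hb : b ∈ K <;> simp_all <;> decide

theorem signHom_eq_one {S : Type*} [Group S] {K : Subgroup S} (hK : K.index = 2) {g : S} :
    signHom K hK g = 1 ↔ g ∈ K := by
  classical
  show (if g ∈ K then (1 : C2) else Multiplicative.ofAdd 1) = 1 ↔ _
  by_cases h : g ∈ K <;> simp [h]

variable {G : Type u} [Group G] [Finite G]

theorem hom_trivial [IsSimpleGroup G] (hG : ¬ IsCyclic G) (f : G →* C2) : f = 1 := by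
  rcases f.normal_ker.eq_bot_or_eq_top with h | h
  · exfalso
    apply hG
    haveI := Fintype.ofFinite G
    exact isCyclic_of_injective f ((MonoidHom.ker_eq_bot_iff f).1 h)
  · exact MonoidHom.ker_eq_top_iff.1 h

theorem no_index_two [IsSimpleGroup G] (hG : ¬ IsCyclic G) (H : Subgroup G) : H.index ≠ 2 := by
  intro h
  have h1 := hom_trivial hG (signHom H h)
  have h2 : H = ⊤ := by
    rw [eq_top_iff]
    intro g _
    exact (signHom_eq_one h).1 (by rw [h1]; rfl)
  rw [h2, Subgroup.index_top] at h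
  omega

theorem odd_normal_eq_bot [IsSimpleGroup G] (heven : 2 ∣ Nat.card G) (N : Subgroup G) (hN : N.Normal)
    (hodd : Odd (Nat.card N)) : N = ⊥ := by
  rcases hN.eq_bot_or_eq_top with h | h
  · exact h
  · rw [h, Subgroup.card_top] at hodd
    exact absurd heven (fun he => (Nat.not_even_iff_odd.2 hodd) (even_iff_two_dvd.2 he))

open MulAction in
/-- Transfer for an element of order four all whose conjugates in `S` have nontrivial sign while
those of its square have trivial sign. -/
theorem transfer_four (S : Sylow 2 G) (φ : ↥(S : Subgroup G) →* C2) (hG : ∀ f : G →* C2, f = 1)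
    (w : G) (hw : orderOf w = 4)
    (h1 : ∀ (g : G) (h : g⁻¹ * w * g ∈ (S : Subgroup G)), φ ⟨_, h⟩ ≠ 1)
    (h2 : ∀ (g : G) (h : g⁻¹ * w ^ 2 * g ∈ (S : Subgroup G)), φ ⟨_, h⟩ = 1) : False := by
  classical
  haveI : Fintype (G ⧸ (S : Subgroup G)) := Fintype.ofFinite _
  haveI : Fintype (Quotient (orbitRel (Subgroup.zpowers w) (G ⧸ (S : Subgroup G)))) :=
    Fintype.ofFinite _
  have hw4 : w ^ 4 = 1 := hw ▸ pow_orderOf_eq_one w
  have hV := MonoidHom.transfer_eq_prod_quotient_orbitRel_zpowers_quot φ w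
  rw [hG (MonoidHom.transfer φ), MonoidHom.one_apply] at hV
  set F : Finset (G ⧸ (S : Subgroup G)) := Finset.univ.filter fun q => w • q = q with hF
  have hterm : ∀ o : Quotient (orbitRel (Subgroup.zpowers w) (G ⧸ (S : Subgroup G))),
      φ ⟨o.out.out⁻¹ * w ^ Function.minimalPeriod (w • ·) o.out * o.out.out,
          QuotientGroup.out_conj_pow_minimalPeriod_mem (S : Subgroup G) w o.out⟩ =
        if o.out ∈ F then Multiplicative.ofAdd 1 else 1 := by
    intro o
    have hmem := QuotientGroup.out_conj_pow_minimalPeriod_mem (S : Subgroup G) w o.out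
    revert hmem
    generalize o.out = q
    intro hmem
    have hper : Function.IsPeriodicPt (w • ·) 4 q := by
      show (w • ·)^[4] q = q
      rw [smul_iterate, hw4]
      exact one_smul G q
    by_cases hq : w • q = q
    · rw [if_pos (by simp [hF, hq])]
      have e1 : Function.minimalPeriod (w • ·) q = 1 :=
        Function.minimalPeriod_eq_one_iff_isFixedPt.mpr hq
      rw [e1, pow_one] at hmem
      refine Eq.trans ?_ ((c2_cases _).resolve_left (h1 q.out hmem))
      exact congrArg φ (Subtype.ext (by simp only [e1, pow_one]))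
    · rw [if_neg (by simp [hF, hq])]
      have hne : Function.minimalPeriod (w • ·) q ≠ 1 :=
        fun h => hq (Function.minimalPeriod_eq_one_iff_isFixedPt.mp h)
      obtain ⟨i, hi, hk⟩ := (Nat.dvd_prime_pow Nat.prime_two).1
        (hper.minimalPeriod_dvd.trans (show 4 ∣ 2 ^ 2 by norm_num))
      interval_cases i
      · exact absurd hk hne
      · rw [hk, pow_one] at hmem
        exact (congrArg φ (Subtype.ext (by simp only [hk, pow_one]))).trans (h2 q.out hmem)
      · refine (congrArg φ (Subtype.ext (show _ = (1 : G) from ?_))).trans (map_one φ)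
        simp only [hk, show (2 : ℕ) ^ 2 = 4 by norm_num, hw4]
        group
  rw [Finset.prod_congr rfl fun o _ => hterm o, ← Finset.prod_filter, Finset.prod_const] at hV
  have hcard : (Finset.univ.filter fun o : Quotient (orbitRel (Subgroup.zpowers w)
      (G ⧸ (S : Subgroup G))) => o.out ∈ F).card = F.card := by
    refine Finset.card_bij (fun o _ => o.out) (fun o ho => (Finset.mem_filter.mp ho).2)
      (fun o₁ _ o₂ _ h => by rw [← Quotient.out_eq o₁, ← Quotient.out_eq o₂, h]) fun q hq => ?_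
    have hqf : w • q = q := (Finset.mem_filter.mp hq).2
    have hout : (Quotient.mk (orbitRel (Subgroup.zpowers w) (G ⧸ (S : Subgroup G))) q).out = q := by
      have h := Quotient.exact (Quotient.out_eq (Quotient.mk
        (orbitRel (Subgroup.zpowers w) (G ⧸ (S : Subgroup G))) q))
      obtain ⟨⟨z, hz⟩, hzq⟩ := MulAction.orbitRel_apply.mp h
      have hzs : z ∈ stabilizer G q :=
        (Subgroup.zpowers_le.mpr (show w ∈ stabilizer G q from hqf)) hz
      exact hzq.symm.trans hzs
    exact ⟨_, Finset.mem_filter.mpr ⟨Finset.mem_univ _, by rw [hout]; exact hq⟩, hout⟩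
  rw [hcard] at hV
  have hd := orderOf_dvd_of_pow_eq_one hV.symm
  rw [show orderOf (Multiplicative.ofAdd (1 : ZMod 2)) = 2 from
    orderOf_eq_prime (by decide) (by decide)] at hd
  have hm := (IsPGroup.of_card (n := 2) (p := 2)
    (by rw [Nat.card_zpowers, hw]; norm_num : Nat.card ↥(Subgroup.zpowers w) = 2 ^ 2)
    ).card_modEq_card_fixedPoints (G ⧸ (S : Subgroup G))
  have hfc : Nat.card ↑(fixedPoints ↥(Subgroup.zpowers w) (G ⧸ (S : Subgroup G))) = F.card := by
    rw [← Nat.card_eq_finsetCard]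
    refine Nat.card_congr (Equiv.subtypeEquivRight fun q => ?_)
    simp only [mem_fixedPoints, hF, Finset.mem_filter, Finset.mem_univ, true_and]
    exact ⟨fun h => h ⟨w, Subgroup.mem_zpowers w⟩, fun h z =>
      (Subgroup.zpowers_le.mpr (show w ∈ stabilizer G q from h)) z.2⟩
  have h3 : ¬ 2 ∣ Nat.card (G ⧸ (S : Subgroup G)) := S.not_dvd_index
  rw [hfc] at hm
  unfold Nat.ModEq at hm
  omega

/-- An involution outside a subgroup of index two of a Sylow subgroup is conjugate into it. -/
theorem conj_into (hG : ∀ f : G →* C2, f = 1) (S : Sylow 2 G) (M : Subgroup ↥(S : Subgroup G))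
    (hM : M.index = 2) {v : G} (hv : orderOf v = 2) (hvS : v ∈ (S : Subgroup G))
    (hvM : (⟨v, hvS⟩ : ↥(S : Subgroup G)) ∉ M) :
    ∃ (g : G) (h : g⁻¹ * v * g ∈ (S : Subgroup G)),
      (⟨g⁻¹ * v * g, h⟩ : ↥(S : Subgroup G)) ∈ M := by
  haveI : Fact (Nat.Prime 2) := ⟨Nat.prime_two⟩
  obtain ⟨g, -, h, h'⟩ := S1853.exists_conj_mem S (signHom M hM) hG v hv hvS
    (fun he => hvM ((signHom_eq_one hM).1 he)) (Subgroup.zpowers v)
    (IsPGroup.of_card (n := 1) (by rw [Nat.card_zpowers, hv, pow_one])) (Subgroup.mem_zpowers v)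
    (Subgroup.zpowers_le.2 (Subgroup.mem_centralizer_singleton_iff.2 rfl))
  exact ⟨g, h, (signHom_eq_one hM).1 h'⟩

/-- The centraliser of a conjugate. -/
theorem card_cent_conj (g v : G) :
    Nat.card ↥(centralizer ({g⁻¹ * v * g} : Set G)) = Nat.card ↥(centralizer ({v} : Set G)) := by
  refine Nat.card_congr ⟨fun a => ⟨g * a * g⁻¹, ?_⟩, fun a => ⟨g⁻¹ * a * g, ?_⟩,
    fun a => Subtype.ext (by simp [mul_assoc]), fun a => Subtype.ext (by simp [mul_assoc])⟩
  · rw [mem_centralizer_singleton_iff]
    have h := mem_centralizer_singleton_iff.1 a.2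
    calc g * ↑a * g⁻¹ * v = g * (↑a * (g⁻¹ * v * g)) * g⁻¹ := by group
      _ = g * (g⁻¹ * v * g * ↑a) * g⁻¹ := by rw [h]
      _ = v * (g * ↑a * g⁻¹) := by group
  · rw [mem_centralizer_singleton_iff]
    have h := mem_centralizer_singleton_iff.1 a.2
    calc g⁻¹ * ↑a * g * (g⁻¹ * v * g) = g⁻¹ * (↑a * v) * g := by group
      _ = g⁻¹ * (v * ↑a) * g := by rw [h]
      _ = g⁻¹ * v * g * (g⁻¹ * ↑a * g) := by group

theorem card_cent_le (S : Subgroup G) (x : ↥S) :
    Nat.card ↥(centralizer ({x} : Set ↥S)) ≤ Nat.card ↥(centralizer ({(x : G)} : Set G)) := by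
  refine Nat.card_le_card_of_injective (fun a => ⟨((a : ↥S) : G), ?_⟩) fun a b h => ?_
  · exact mem_centralizer_singleton_iff.2
      (congrArg Subtype.val (mem_centralizer_singleton_iff.1 a.2))
  · have h' := congrArg Subtype.val h
    exact Subtype.ext (Subtype.ext h')

theorem card_le_cent_of_cyclic {S : Type*} [Group S] [Finite S] {c x : S}
    (hx : x ∈ zpowers c) : orderOf c ≤ Nat.card ↥(centralizer ({x} : Set S)) := by
  rw [← Nat.card_zpowers]
  refine Subgroup.card_le_of_le ?_
  rintro a ha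
  obtain ⟨i, rfl⟩ := mem_zpowers_iff.1 ha
  obtain ⟨j, rfl⟩ := mem_zpowers_iff.1 hx
  exact mem_centralizer_singleton_iff.2 (Commute.zpow_zpow_self c i j).eq

theorem zpowers_index {S : Type*} [Group S] [Finite S] {n : ℕ} (hn : 1 ≤ n) {c : S}
    (hS : Nat.card S = 2 ^ n) (hc : orderOf c = 2 ^ (n - 1)) : (zpowers c).index = 2 := by
  have h1 := (zpowers c).card_mul_index
  rw [Nat.card_zpowers, hc, hS] at h1
  nth_rw 2 [show n = (n - 1) + 1 by omega] at h1
  rw [pow_succ] at h1
  exact Nat.eq_of_mul_eq_mul_left (by positivity) h1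

/-- The involution of a cyclic subgroup of index two is central. -/
theorem central_of_mem {S : Type*} [Group S] [Finite S] {c x : S} (hidx : (zpowers c).index = 2)
    (hx : x ∈ zpowers c) (hx2 : orderOf x = 2) : centralizer ({x} : Set S) = ⊤ := by
  rw [eq_top_iff]
  intro s _
  rw [mem_centralizer_singleton_iff]
  haveI : (zpowers c).Normal := Subgroup.normal_of_index_eq_two hidx
  have h := PGroups.eq_of_sq_eq_one (inferInstance : IsCyclic (zpowers c))
    (Subgroup.Normal.conj_mem inferInstance x hx s) hx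
    (by rw [conj_pow, ← hx2, pow_orderOf_eq_one, mul_one, mul_inv_cancel])
    (by rw [← hx2, pow_orderOf_eq_one])
    (H65.ne_one_of_orderOf ((H65.orderOf_conj' s x).trans hx2)) (H65.ne_one_of_orderOf hx2)
  exact mul_inv_eq_iff_eq_mul.1 h

/-- A simple group with an involution whose centraliser has order four has order sixty. -/
theorem card_sixty [IsSimpleGroup G] (hG : ¬ IsCyclic G) {w : G} (hw : orderOf w = 2)
    (hC : Nat.card ↥(centralizer ({w} : Set G)) = 4) :
    Nat.card G = 12 ∨ Nat.card G = 60 := by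
  classical
  haveI : Fact (Nat.Prime 2) := ⟨Nat.prime_two⟩
  haveI := Fintype.ofFinite G
  have hhom := hom_trivial hG
  set A := centralizer ({w} : Set G) with hAdef
  have hA2 : IsPGroup 2 ↥A := IsPGroup.of_card (n := 2) (by rw [hC]; norm_num)
  obtain ⟨S, hAS⟩ := hA2.exists_le_sylow
  have hwA : w ∈ A := mem_centralizer_singleton_iff.2 rfl
  have hwS : w ∈ (S : Subgroup G) := hAS hwA
  obtain ⟨n, hn⟩ := IsPGroup.iff_card.mp S.isPGroup'
  set A' := A.subgroupOf (S : Subgroup G) with hA'def
  have hA' : Nat.card A' = 2 ^ 2 := by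
    rw [Nat.card_congr (Subgroup.subgroupOfEquivOfLe hAS).toEquiv, hC]; norm_num
  have hcomm : IsMulCommutative A := IsPGroup.isMulCommutative_of_card_eq_prime_sq (p := 2)
    (by rw [hC]; norm_num)
  have hself : centralizer (A' : Set ↥(S : Subgroup G)) = A' := by
    refine le_antisymm (fun a ha => ?_) fun a ha => ?_
    · rw [mem_subgroupOf, hAdef, mem_centralizer_singleton_iff]
      exact (congrArg Subtype.val
        ((mem_centralizer_iff.1 ha) ⟨w, hwS⟩ (mem_subgroupOf.2 hwA))).symm
    · refine mem_centralizer_iff.2 fun b hb => Subtype.ext ?_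
      have h' := congrArg Subtype.val (hcomm.is_comm.comm (⟨b.1, hb⟩ : A) ⟨a.1, ha⟩)
      exact h'
  have hn2 : 2 ≤ n := (Nat.pow_dvd_pow_iff_le_right one_lt_two).mp
    (hA' ▸ hn ▸ A'.card_subgroup_dvd_card)
  rcases hn2.lt_or_eq with hn3 | hn2'
  · exfalso
    obtain ⟨c, y, hc, -, -, -⟩ := PGroups.maxClass_two hn3 hn
      (PGroups.nilpotencyClass_of_self_centralizing n _ hn A' hA' hself)
    have hidx := zpowers_index (by omega) hn hc
    have key : ∀ x : ↥(S : Subgroup G), x ∈ zpowers c → orderOf x = 2 →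
        Nat.card ↥(centralizer ({(x : G)} : Set G)) = 4 → False := by
      intro x hx hx2 h4
      have h := card_cent_le (S : Subgroup G) x
      rw [central_of_mem hidx hx hx2, Subgroup.card_top, h4, hn] at h
      have : 2 ^ 3 ≤ 2 ^ n := Nat.pow_le_pow_right (by norm_num) hn3
      omega
    by_cases hwc : (⟨w, hwS⟩ : ↥(S : Subgroup G)) ∈ zpowers c
    · exact key _ hwc (by rw [← Subgroup.orderOf_coe]; exact hw) hC
    · obtain ⟨g, h, hm⟩ := conj_into hhom S _ hidx hw hwS hwc
      refine key _ hm ?_ ((card_cent_conj g w).trans hC)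
      rw [← Subgroup.orderOf_coe]
      show orderOf (g⁻¹ * w * g) = 2
      have := H65.orderOf_conj' g⁻¹ w
      rw [inv_inv] at this
      exact this.trans hw
  · subst hn2'
    have hSA : (S : Subgroup G) = A := (Subgroup.eq_of_le_of_card_ge hAS (by rw [hn, hC]; norm_num)).symm
    have hexp : ∀ a ∈ A, a ^ 2 = 1 := by
      intro a ha
      by_contra hne
      have h4 : orderOf a = 4 := orderOf_eq_prime_pow (p := 2) (n := 1) (by simpa using hne) (by
        have h' : a ^ Nat.card A = 1 := orderOf_dvd_iff_pow_eq_one.1 (A.orderOf_dvd_natCard ha)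
        rw [hC] at h'
        simpa using h')
      obtain ⟨H, hH⟩ := S0219.result (G := G)
        (even_iff_two_dvd.2 (Dvd.dvd.trans (by rw [hC]; norm_num) A.card_subgroup_dvd_card)) S
        (isCyclic_of_orderOf_eq_card (⟨a, hSA ▸ ha⟩ : ↥(S : Subgroup G))
          (by rw [← Subgroup.orderOf_coe]; exact h4.trans (by rw [hn]; norm_num)))
      exact no_index_two hG H hH
    have hone : ∀ v : G, orderOf v = 2 → IsConj w v := by
      intro v hv
      obtain ⟨R, hR⟩ := (IsPGroup.of_card (p := 2) (n := 1) (G := ↥(zpowers v))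
        (by rw [Nat.card_zpowers, hv, pow_one])).exists_le_sylow
      obtain ⟨g, hg⟩ := MulAction.exists_smul_eq G R S
      have hvS : g * v * g⁻¹ ∈ (S : Subgroup G) := by
        rw [← hg]
        exact Subgroup.smul_mem_pointwise_smul v (MulAut.conj g) _ (hR (mem_zpowers v))
      have hv2 : orderOf (g * v * g⁻¹) = 2 := (H65.orderOf_conj' g v).trans hv
      refine IsConj.trans ?_ (isConj_iff.2 ⟨g⁻¹, by group⟩ : IsConj (g * v * g⁻¹) v)
      set M := zpowers (⟨w, hwS⟩ : ↥(S : Subgroup G))
      have hoM : orderOf (⟨w, hwS⟩ : ↥(S : Subgroup G)) = 2 := by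
        rw [← Subgroup.orderOf_coe]; exact hw
      have hidx : M.index = 2 := zpowers_index (n := 2) (by norm_num) hn (by rw [hoM]; norm_num)
      have huniq : ∀ (x : G) (h : x ∈ (S : Subgroup G)), orderOf x = 2 →
          (⟨x, h⟩ : ↥(S : Subgroup G)) ∈ M → x = w := fun x h hx hm =>
        congrArg Subtype.val (PGroups.eq_of_sq_eq_one (inferInstance : IsCyclic M) hm
          (mem_zpowers _) (Subtype.ext (by
            rw [Subgroup.coe_pow]; show x ^ 2 = 1; rw [← hx, pow_orderOf_eq_one]))
          (orderOf_dvd_iff_pow_eq_one.1 (dvd_of_eq hoM))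
          (fun e => H65.ne_one_of_orderOf hx (congrArg Subtype.val e))
          (H65.ne_one_of_orderOf hoM))
      by_cases hm : (⟨_, hvS⟩ : ↥(S : Subgroup G)) ∈ M
      · rw [huniq _ _ hv2 hm]
      · obtain ⟨k, h, hkm⟩ := conj_into hhom S M hidx hv2 hvS hm
        refine (isConj_iff.2 ⟨k⁻¹, ?_⟩ : IsConj (g * v * g⁻¹) w).symm
        rw [inv_inv]
        refine huniq _ h ?_ hkm
        have := H65.orderOf_conj' k⁻¹ (g * v * g⁻¹)
        rw [inv_inv] at this
        exact this.trans hv2
    have h4 : ∀ t : G, orderOf t = 2 → Nat.card ↥(centralizer ({t} : Set G)) = 4 ∧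
        ∀ c ∈ centralizer ({t} : Set G), c ^ 2 = 1 := by
      intro t ht
      obtain ⟨k, rfl⟩ := isConj_iff.1 (hone t ht)
      have e := card_cent_conj k⁻¹ w
      rw [inv_inv] at e
      refine ⟨e.trans hC, fun c hc => ?_⟩
      have h1 : k⁻¹ * c * k ∈ A := by
        rw [hAdef, mem_centralizer_singleton_iff]
        have h := mem_centralizer_singleton_iff.1 hc
        calc k⁻¹ * c * k * w = k⁻¹ * (c * (k * w * k⁻¹)) * k := by group
          _ = k⁻¹ * (k * w * k⁻¹ * c) * k := by rw [h]
          _ = w * (k⁻¹ * c * k) := by group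
      have h2 := hexp _ h1
      calc c ^ 2 = k * (k⁻¹ * c * k) ^ 2 * k⁻¹ := by rw [pow_two, pow_two]; group
        _ = 1 := by rw [h2]; group
    have hall : ∀ s t : G, orderOf s = 2 → orderOf t = 2 → IsConj s t := fun s t hs ht =>
      (hone s hs).symm.trans (hone t ht)
    rw [Nat.card_eq_fintype_card, H65.FourCount.card_eq_four_mul h4 hall hw]
    rcases H65.FourCount.card_invs h4 hall hw with e | e <;> rw [e] <;> simp

/-- The shape of the Sylow subgroup at a self-centralising element of order four. -/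
theorem exists_dihedral [IsSimpleGroup G] (hG : ¬ IsCyclic G) {w : G} (hw : orderOf w = 4)
    (hC : Nat.card ↥(centralizer ({w} : Set G)) = 4) :
    ∃ (S : Sylow 2 G) (e : G), w ∈ (S : Subgroup G) ∧ e ∈ (S : Subgroup G) ∧ orderOf e = 2 ∧
      e * w * e⁻¹ = w⁻¹ ∧ Nonempty ((S : Subgroup G) ≃* DihedralGroup 4) ∧
      (∀ g : G, Commute g w → g ∈ zpowers w) ∧ ∀ v : G, orderOf v = 2 → IsConj (w ^ 2) v := by
  classical
  haveI : Fact (Nat.Prime 2) := ⟨Nat.prime_two⟩
  haveI := Fintype.ofFinite G
  have hhom := hom_trivial hG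
  have hcent : centralizer ({w} : Set G) = zpowers w := (Subgroup.eq_of_le_of_card_ge
    (Subgroup.zpowers_le.2 (mem_centralizer_singleton_iff.2 rfl))
    (by rw [hC, Nat.card_zpowers, hw])).symm
  have hcw : ∀ g : G, Commute g w → g ∈ zpowers w := fun g hg =>
    hcent ▸ mem_centralizer_singleton_iff.2 hg
  obtain ⟨S, hS⟩ := (IsPGroup.of_card (p := 2) (n := 2) (G := ↥(zpowers w))
    (by rw [Nat.card_zpowers, hw]; norm_num)).exists_le_sylow
  have hwS : w ∈ (S : Subgroup G) := hS (mem_zpowers w)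
  have heven : 2 ∣ Nat.card G := (show (2 : ℕ) ∣ 4 by norm_num).trans (hw ▸ orderOf_dvd_natCard w)
  obtain ⟨n, hn⟩ := IsPGroup.iff_card.mp S.isPGroup'
  set w' : ↥(S : Subgroup G) := ⟨w, hwS⟩ with hw'def
  have hw' : orderOf w' = 4 := by rw [← Subgroup.orderOf_coe]; exact hw
  have hA : Nat.card (zpowers w') = 2 ^ 2 := by rw [Nat.card_zpowers, hw']; norm_num
  have hmemA : ∀ a : ↥(S : Subgroup G), Commute a w' → a ∈ zpowers w' := by
    intro a ha
    obtain ⟨i, hi⟩ := mem_zpowers_iff.1 (hcw a (congrArg Subtype.val ha.eq))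
    exact mem_zpowers_iff.2 ⟨i, Subtype.ext (by rw [Subgroup.coe_zpow]; exact hi)⟩
  have hself : centralizer (zpowers w' : Set ↥(S : Subgroup G)) = zpowers w' := by
    refine le_antisymm (fun a ha => hmemA a (mem_centralizer_iff.1 ha w' (mem_zpowers w')).symm)
      fun a ha => mem_centralizer_iff.2 fun b hb => ?_
    obtain ⟨i, rfl⟩ := mem_zpowers_iff.1 ha
    obtain ⟨j, rfl⟩ := mem_zpowers_iff.1 hb
    exact (Commute.zpow_zpow_self w' j i).eq
  have hn2 : 2 ≤ n := (Nat.pow_dvd_pow_iff_le_right one_lt_two).mp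
    (hA ▸ hn ▸ (zpowers w').card_subgroup_dvd_card)
  rcases hn2.lt_or_eq with hn3 | hn2'
  swap
  · exfalso
    obtain ⟨H, hH⟩ := S0219.result (G := G) (even_iff_two_dvd.2 heven) S
      (isCyclic_of_orderOf_eq_card w' (by rw [hn, hw', ← hn2']; norm_num))
    exact no_index_two hG H hH
  obtain ⟨c, y, hc, hy, hcase, -⟩ := PGroups.maxClass_two hn3 hn
    (PGroups.nilpotencyClass_of_self_centralizing n _ hn _ hA hself)
  have hcardS : Nat.card ↥(S : Subgroup G) = 2 * 2 ^ (n - 1) := by
    rw [hn, ← pow_succ', show n - 1 + 1 = n by omega]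
  have hquat : y * c * y⁻¹ = c⁻¹ → y ^ 2 = c ^ 2 ^ (n - 2) → False := by
    intro h1 h2
    haveI : NeZero (2 ^ (n - 2)) := ⟨by positivity⟩
    obtain ⟨f⟩ := PGroups.nonempty_mulEquiv_quaternion (n := 2 ^ (n - 2))
      (by rw [hc, ← pow_succ', show n - 2 + 1 = n - 1 by omega]) hy h2 h1
      (by rw [hn, show (4 : ℕ) = 2 ^ 2 by norm_num, ← pow_add, show 2 + (n - 2) = n by omega])
    have hz := S0201.result S (n - 3) (by rwa [show n - 3 + 1 = n - 2 by omega])
      (odd_normal_eq_bot heven)
    rcases (inferInstance : (Subgroup.center G).Normal).eq_bot_or_eq_top with h | h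
    · rw [h, Subgroup.card_bot] at hz; omega
    · rw [h, Subgroup.card_top] at hz
      have := hw ▸ orderOf_dvd_natCard w
      rw [hz] at this; omega
  by_cases hwc : w' ∈ zpowers c
  · have h1 := card_le_cent_of_cyclic hwc
    have h2 := card_cent_le (S : Subgroup G) w'
    rw [hC] at h2
    rw [hc] at h1
    have hn4 : n = 3 := by
      by_contra hne
      have : 2 ^ 3 ≤ 2 ^ (n - 1) := Nat.pow_le_pow_right (by norm_num) (by omega)
      omega
    subst hn4
    obtain ⟨hr, hy2⟩ : y * c * y⁻¹ = c⁻¹ ∧ y ^ 2 = 1 := by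
      rcases hcase with ⟨h1, h2 | h2⟩ | ⟨h4, -, -⟩
      · exact ⟨h1, h2⟩
      · exact (hquat h1 h2).elim
      · omega
    haveI : NeZero (4 : ℕ) := ⟨by norm_num⟩
    have hyo : orderOf y = 2 := orderOf_eq_prime hy2 fun h => hy (h ▸ one_mem _)
    refine ⟨S, (y : G), hwS, y.2, by rw [Subgroup.orderOf_coe]; exact hyo, ?_,
      PGroups.nonempty_mulEquiv_dihedral hc hy hy2 hr (by rw [hn]; norm_num), hcw, ?_⟩
    · obtain ⟨i, hi⟩ := mem_zpowers_iff.1 hwc
      have h : y * w' * y⁻¹ = w'⁻¹ := by rw [← hi, ← conj_zpow, hr, inv_zpow]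
      exact congrArg Subtype.val h
    · intro v hv
      have hidx := zpowers_index (n := 3) (by norm_num) hn hc
      obtain ⟨R, hR⟩ := (IsPGroup.of_card (p := 2) (n := 1) (G := ↥(zpowers v))
        (by rw [Nat.card_zpowers, hv, pow_one])).exists_le_sylow
      obtain ⟨g, hg⟩ := MulAction.exists_smul_eq G R S
      have hvS : g * v * g⁻¹ ∈ (S : Subgroup G) := by
        rw [← hg]
        exact Subgroup.smul_mem_pointwise_smul v (MulAut.conj g) _ (hR (mem_zpowers v))
      have hv2 : orderOf (g * v * g⁻¹) = 2 := (H65.orderOf_conj' g v).trans hv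
      refine IsConj.trans ?_ (isConj_iff.2 ⟨g⁻¹, by group⟩ : IsConj (g * v * g⁻¹) v)
      have ho2 : orderOf (w' ^ 2) = 2 := by
        rw [orderOf_pow, hw']; norm_num
      have huniq : ∀ (x : G) (h : x ∈ (S : Subgroup G)), orderOf x = 2 →
          (⟨x, h⟩ : ↥(S : Subgroup G)) ∈ zpowers c → x = w ^ 2 := fun x h hx hm =>
        congrArg Subtype.val (PGroups.eq_of_sq_eq_one (inferInstance : IsCyclic (zpowers c)) hm
          (pow_mem hwc 2) (Subtype.ext (by
            rw [Subgroup.coe_pow]; show x ^ 2 = 1; rw [← hx, pow_orderOf_eq_one]))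
          (orderOf_dvd_iff_pow_eq_one.1 (dvd_of_eq ho2))
          (fun e => H65.ne_one_of_orderOf hx (congrArg Subtype.val e))
          (H65.ne_one_of_orderOf ho2))
      by_cases hm : (⟨_, hvS⟩ : ↥(S : Subgroup G)) ∈ zpowers c
      · rw [huniq _ _ hv2 hm]
      · obtain ⟨k, h, hkm⟩ := conj_into hhom S _ hidx hv2 hvS hm
        refine (isConj_iff.2 ⟨k⁻¹, ?_⟩ : IsConj (g * v * g⁻¹) (w ^ 2)).symm
        rw [inv_inv]
        refine huniq _ h ?_ hkm
        have := H65.orderOf_conj' k⁻¹ (g * v * g⁻¹)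
        rw [inv_inv] at this
        exact this.trans hv2
  · exfalso
    rcases hcase with ⟨h1, h2 | h2⟩ | ⟨h4, h1, h2⟩
    · -- dihedral: the elements outside the cyclic subgroup are involutions
      have hidx := zpowers_index (by omega) hn hc
      obtain ⟨i, hi⟩ := mem_zpowers_iff.1
        ((Subgroup.mul_mem_iff_of_index_two hidx).mpr (by simp [hy, hwc]) : y⁻¹ * w' ∈ zpowers c)
      have hwi : w' = y * c ^ i := by rw [hi, mul_inv_cancel_left]
      have hsq : w' ^ 2 = 1 := by
        rw [hwi, PGroups.sq_mul_zpow (r := -1) (s := 0) (by rw [zpow_neg_one]; exact h1)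
          (by rw [zpow_zero]; exact h2)]
        simp
      have := orderOf_dvd_of_pow_eq_one hsq
      rw [hw'] at this; omega
    · exact hquat h1 h2
    · obtain ⟨m, rfl⟩ : ∃ m, n = m + 4 := ⟨n - 4, by omega⟩
      have hyo : orderOf y = 2 := orderOf_eq_prime h2 fun h => hy (h ▸ one_mem _)
      have hsd : H39.SDGen m c y := ⟨hn, by rw [hc]; congr 1, hyo, by
        rw [h1, show m + 4 - 2 = m + 2 by omega]⟩
      have hidx := hsd.index_evenPart 0
      refine transfer_four S (signHom (hsd.evenPart 0) hidx) hhom w hw (fun g h he => ?_)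
        fun g h => ?_
      · have hm := (signHom_eq_one hidx).1 he
        have ho : orderOf (⟨g⁻¹ * w * g, h⟩ : ↥(S : Subgroup G)) = 4 := by
          rw [← Subgroup.orderOf_coe]
          have := H65.orderOf_conj' g⁻¹ w
          rw [inv_inv] at this
          exact this.trans hw
        have hin : (⟨g⁻¹ * w * g, h⟩ : ↥(S : Subgroup G)) ∈ zpowers c := by
          rcases hsd.mem_ord_four _ ho with e | e | ⟨k, e⟩
          · exact e ▸ zpow_mem (mem_zpowers c) _
          · exact e ▸ zpow_mem (mem_zpowers c) _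
          · rw [e, hsd.out_mem_evenPart] at hm
            obtain ⟨j, hj⟩ := hm
            omega
        have h5 := (card_le_cent_of_cyclic hin).trans (card_cent_le (S : Subgroup G) _)
        rw [hc, show Nat.card ↥(centralizer ({g⁻¹ * w * g} : Set G)) = 4 from
          (card_cent_conj g w).trans hC] at h5
        have : 2 ^ 3 ≤ 2 ^ (m + 4 - 1) := Nat.pow_le_pow_right (by norm_num) (by omega)
        omega
      · rw [signHom_eq_one]
        have ho : orderOf (⟨g⁻¹ * w ^ 2 * g, h⟩ : ↥(S : Subgroup G)) = 2 := by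
          rw [← Subgroup.orderOf_coe]
          have := H65.orderOf_conj' g⁻¹ (w ^ 2)
          rw [inv_inv] at this
          exact this.trans (by rw [orderOf_pow, hw]; norm_num)
        rcases hsd.mem_ord_two _ ho with e | ⟨k, e⟩
        · rw [e, hsd.in_mem_evenPart]; exact ⟨2 * 2 ^ m, by ring⟩
        · rw [e, hsd.out_mem_evenPart]; exact ⟨k, by ring⟩

end Cfsg.Agent.H83.SmallCent
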