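import Mathlib

/-!
The arithmetic of the order formulas for centralisers `C(t) = O ⋊ D₈`.
-/

set_option autoImplicit false

namespace Cfsg.Agent.H83.SmallCent

/-- Both fixed point subgroups nontrivial: the index of `C(O^e)⟨w⟩` is 15 or 7. -/
theorem index_cases {N x : ℕ} {δ : ℤ} (hδ : δ = 1 ∨ δ = -1) (hN : N % 2 = 1) (hx : 0 < x)
    (hne : (x : ℤ) ≠ δ) (h : 3 * (N : ℤ) * ((x : ℤ) - δ) ^ 2 = 32 * x * (x + δ)) :
    N = 15 ∨ N = 7 := by
  have hdvd : ((x : ℤ) - δ) ∣ 64 := by
    refine ⟨3 * (N : ℤ) * (x - δ) - 32 * (x + 2 * δ), ?_⟩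
    rcases hδ with rfl | rfl <;> linarith
  have hle := Int.le_of_dvd (by norm_num) hdvd
  have hx65 : x ≤ 65 := by rcases hδ with rfl | rfl <;> omega
  rcases hδ with rfl | rfl <;> interval_cases x <;>
    first
    | (norm_num at hne; done)
    | (norm_num at h; done)
    | (norm_num at h; omega)

theorem a_pow_four_dvd {a : ℕ} (hodd : a % 2 = 1) (h : a ^ 4 ∣ 3632428800) : a = 1 ∨ a = 3 := by
  have hle : a < 250 := by
    by_contra hc
    have h1 := Nat.le_of_dvd (by norm_num) h
    have h2 : 250 ^ 4 ≤ a ^ 4 := Nat.pow_le_pow_left (by omega) 4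
    omega
  have key : ∀ b : Fin 250, (b : ℕ) ^ 4 ∣ 3632428800 → (b : ℕ) % 2 = 1 → (b : ℕ) = 1 ∨ (b : ℕ) = 3 := by
    decide +kernel
  exact key ⟨a, hle⟩ h hodd

theorem prod_ge {U V : ℤ} (hU : 5 ≤ U) (hV : 5 ≤ V) : 5 * (U + V - 5) ≤ U * V := by
  nlinarith [mul_nonneg (sub_nonneg.2 hU) (sub_nonneg.2 hV)]

set_option maxHeartbeats 800000 in
/-- One fixed point subgroup trivial: the two equations for the degrees. -/
theorem degree_cases {a : ℤ} {X A B : ℤ} (ha : 3 ≤ a) (haodd : a % 2 = 1) (hX : X % 8 = 1)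
    (hX1 : X ≠ 1) (hA : A % 8 = 3) (hB : B % 8 = 3) (hsum : A + B = -(X + 1))
    (h : 4 * a * (A * B) * (X - 1) ^ 2 = (a + 1) ^ 2 * (X + 1) ^ 2 * (A * B - X)) :
    (a = 3 ∧ X = -15) ∨ (a = 5 ∧ X = -7) := by
  have hbr : A * B * ((a - 1) ^ 2 * (X + 1) ^ 2 + 16 * a * X) = (a + 1) ^ 2 * (X + 1) ^ 2 * X := by
    linear_combination -h
  rcases lt_or_ge 0 X with hpos | hneg
  · exfalso
    have hX9 : 9 ≤ X := by omega
    have hrhs : 0 < (a + 1) ^ 2 * (X + 1) ^ 2 * X := by positivity
    have hbpos : 0 < (a - 1) ^ 2 * (X + 1) ^ 2 + 16 * a * X := by positivity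
    have hP : 0 < A * B := by
      by_contra hc
      nlinarith [mul_nonpos_of_nonpos_of_nonneg (not_lt.1 hc) hbpos.le]
    have hA0 : A < 0 := by
      by_contra hc
      have : A ≠ 0 := by omega
      have hA' : 0 < A := by omega
      have := (pos_iff_pos_of_mul_pos hP).1 hA'
      omega
    have hB0 : B < 0 := (neg_iff_neg_of_mul_pos hP).1 hA0
    have hge := prod_ge (U := -A) (V := -B) (by omega) (by omega)
    have h1 : A * B * (a - 1) ^ 2 < (a + 1) ^ 2 * X := by
      refine lt_of_mul_lt_mul_right (?_ : A * B * (a - 1) ^ 2 * (X + 1) ^ 2 <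
        (a + 1) ^ 2 * X * (X + 1) ^ 2) (by positivity)
      nlinarith [mul_pos hP (show (0 : ℤ) < 16 * a * X by positivity)]
    have h2 : (a + 1) ^ 2 ≤ 4 * (a - 1) ^ 2 := by nlinarith
    have h3 : A * B < 4 * X := by
      refine lt_of_mul_lt_mul_right (?_ : A * B * (a - 1) ^ 2 < 4 * X * (a - 1) ^ 2) (by positivity)
      nlinarith [mul_le_mul_of_nonneg_right h2 hpos.le]
    have hX20 : X < 20 := by nlinarith
    have hcase : (X = 9 ∧ A * B = 25) ∨ (X = 17 ∧ A * B = 65) := by
      rcases (show X = 9 ∨ X = 17 by omega) with rfl | rfl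
      · left
        have : A = -5 := by omega
        subst this
        have : B = -5 := by omega
        subst this
        norm_num
      · right
        rcases (show A = -5 ∨ A = -13 by omega) with rfl | rfl
        · have : B = -13 := by omega
          subst this; norm_num
        · have : B = -5 := by omega
          subst this; norm_num
    rcases hcase with ⟨rfl, hAB⟩ | ⟨rfl, hAB⟩
    · rw [hAB] at h h1
      have : a ≤ 3 := by nlinarith
      interval_cases a
      norm_num at h
    · rw [hAB] at h h1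
      have : a ≤ 3 := by nlinarith
      interval_cases a
      norm_num at h
  · obtain ⟨x, rfl⟩ : ∃ x, X = -x := ⟨-X, by ring⟩
    have hx7 : 7 ≤ x := by omega
    have hbr' : A * B * ((a - 1) ^ 2 * (x - 1) ^ 2 - 16 * a * x) =
        -((a + 1) ^ 2 * (x - 1) ^ 2 * x) := by linear_combination hbr
    have hkey : 144 * x ≤ 28 * (x - 1) ^ 2 := by nlinarith
    rcases le_or_gt ((a - 1) ^ 2 * (x - 1) ^ 2 - 16 * a * x) 0 with hb | hb
    · exfalso
      have ha3 : a = 3 := by
        by_contra hne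
        have ha5 : 5 ≤ a := by omega
        have h1 : 16 * a ≤ 5 * (a - 1) ^ 2 := by nlinarith
        nlinarith [mul_le_mul_of_nonneg_right h1 (sq_nonneg (x - 1)),
          mul_le_mul_of_nonneg_left hkey (show (0 : ℤ) ≤ a by omega)]
      subst ha3
      have hx13 : x ≤ 13 := by nlinarith
      have : x = 7 := by omega
      subst this
      norm_num at hbr'
      nlinarith [sq_nonneg (A - B)]
    · have hP : A * B < 0 := by
        by_contra hc
        have := mul_nonneg (not_lt.1 hc) hb.le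
        have : 0 < (a + 1) ^ 2 * (x - 1) ^ 2 * x := by
          have : (0 : ℤ) < (x - 1) ^ 2 := pow_pos (by omega) 2
          positivity
        linarith
      have hAB : 5 * (x + 4) ≤ -(A * B) := by
        rcases lt_or_ge A 0 with hA0 | hA0
        · linarith only [hsum, (show A ≤ -5 by omega), mul_nonneg (show (0 : ℤ) ≤ -A - 5 by omega)
            (show (0 : ℤ) ≤ B - 5 by omega)]
        · have hB0 : B < 0 := by
            by_contra hc
            nlinarith [mul_nonneg hA0 (not_lt.1 hc)]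
          linarith only [hsum, (show B ≤ -5 by omega), mul_nonneg (show (0 : ℤ) ≤ -B - 5 by omega)
            (show (0 : ℤ) ≤ A - 5 by omega)]
      have hmain : 5 * (x + 4) * ((a - 1) ^ 2 * (x - 1) ^ 2 - 16 * a * x) ≤
          (a + 1) ^ 2 * (x - 1) ^ 2 * x := by
        linarith only [hbr', mul_le_mul_of_nonneg_right hAB hb.le]
      have ha6 : a ≤ 6 := by
        by_contra hc
        have ha7 : 7 ≤ a := by omega
        have h1 : 9 * (a + 1) ^ 2 + 1 ≤ 5 * (9 * (a - 1) ^ 2 - 28 * a) := by nlinarith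
        have h2 : (x - 1) ^ 2 * (9 * (a - 1) ^ 2 - 28 * a) ≤
            9 * ((a - 1) ^ 2 * (x - 1) ^ 2 - 16 * a * x) := by
          linarith only [mul_le_mul_of_nonneg_left hkey (show (0 : ℤ) ≤ a by omega)]
        have h3 : 5 * (x + 4) * ((x - 1) ^ 2 * (9 * (a - 1) ^ 2 - 28 * a)) ≤
            5 * (x + 4) * (9 * ((a - 1) ^ 2 * (x - 1) ^ 2 - 16 * a * x)) :=
          mul_le_mul_of_nonneg_left h2 (by omega)
        have h4 : (x + 4) * (x - 1) ^ 2 * (9 * (a + 1) ^ 2 + 1) ≤
            (x + 4) * (x - 1) ^ 2 * (5 * (9 * (a - 1) ^ 2 - 28 * a)) :=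
          mul_le_mul_of_nonneg_left h1 (by positivity)
        have h5 : 0 < (x + 4) * (x - 1) ^ 2 := by
          have : (0 : ℤ) < (x - 1) ^ 2 := pow_pos (by omega) 2
          positivity
        have e1 : (x + 4) * (x - 1) ^ 2 * (9 * (a + 1) ^ 2 + 1) ≤
            9 * ((a + 1) ^ 2 * (x - 1) ^ 2 * x) :=
          h4.trans ((le_of_eq (by ring)).trans (h3.trans ((le_of_eq (by ring :
            5 * (x + 4) * (9 * ((a - 1) ^ 2 * (x - 1) ^ 2 - 16 * a * x)) =
              9 * (5 * (x + 4) * ((a - 1) ^ 2 * (x - 1) ^ 2 - 16 * a * x)))).trans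
            (mul_le_mul_of_nonneg_left hmain (by norm_num)))))
        have e2 : 9 * ((a + 1) ^ 2 * (x - 1) ^ 2 * x) <
            (x + 4) * (x - 1) ^ 2 * (9 * (a + 1) ^ 2 + 1) := by
          linarith only [h5, mul_le_mul_of_nonneg_right (show x ≤ x + 4 by omega)
            (show (0 : ℤ) ≤ 9 * (a + 1) ^ 2 * (x - 1) ^ 2 by positivity)]
        exact absurd (e1.trans_lt e2) (lt_irrefl _)
      rcases (show a = 3 ∨ a = 5 by omega) with rfl | rfl
      · left
        refine ⟨rfl, ?_⟩
        have hx47 : x ≤ 47 := by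
          by_contra hc
          nlinarith [mul_le_mul_of_nonneg_right (show 48 ≤ x by omega) (sq_nonneg x)]
        have hx15 : 14 ≤ x := by
          by_contra hc
          nlinarith
        rcases (show x = 15 ∨ x = 23 ∨ x = 31 ∨ x = 39 ∨ x = 47 by omega) with
          rfl | rfl | rfl | rfl | rfl
        · norm_num
        all_goals
          exfalso
          generalize A * B = P at hbr'
          norm_num at hbr'
          omega
      · right
        refine ⟨rfl, ?_⟩
        have hx9 : x ≤ 9 := by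
          by_contra hc
          nlinarith [mul_le_mul_of_nonneg_right (show 10 ≤ x by omega) (sq_nonneg x)]
        omega

end Cfsg.Agent.H83.SmallCent
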