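import Cfsg.Agent.H65.DihedralEight
import Cfsg.Agent.H84.UniquePSingular
import Cfsg.Agent.H84.ClassProd
import Cfsg.Agent.H83.SmallCent.Sylow

/-!
A group with a subgroup of index two and an outer element of order four whose centraliser has order
four: the four characters not vanishing there and the resulting equation for the group order.
-/

set_option autoImplicit false
set_option linter.unusedSectionVars false
set_option linter.style.haveILetI false
set_option linter.unusedSimpArgs false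

open scoped ComplexConjugate
open Finset

namespace Cfsg.Agent.H83.SmallCent

open Cfsg Cfsg.Agent.CharBasic

universe u

variable {K : Type u} [Group K] [Fintype K]

/-- The linear character attached to a subgroup of index two. -/
noncomputable def signChar (H : Subgroup K) (hH : H.index = 2) : K →* ℂˣ :=
  H65.CentralFour.sgnHom.comp (signHom H hH)

theorem signChar_mem {H : Subgroup K} (hH : H.index = 2) {g : K} (hg : g ∈ H) :
    ((signChar H hH g : ℂˣ) : ℂ) = 1 := by
  simp [signChar, (signHom_eq_one hH).2 hg]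

theorem signChar_notMem {H : Subgroup K} (hH : H.index = 2) {g : K} (hg : g ∉ H) :
    ((signChar H hH g : ℂˣ) : ℂ) = -1 := by
  rw [signChar, MonoidHom.comp_apply,
    (c2_cases _).resolve_left fun h => hg ((signHom_eq_one hH).1 h)]
  simp [H65.CentralFour.sgnHom, H65.CentralFour.ofAdd_one_ne]

/-- The class multiplication formula with centraliser orders. -/
theorem class_count (x y z : K) :
    (Nat.card ↥(Subgroup.centralizer ({x} : Set K)) : ℂ) *
        Nat.card ↥(Subgroup.centralizer ({y} : Set K)) *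
        (Nat.card {g : K // IsConj x g ∧ IsConj y (g⁻¹ * z)} : ℂ) =
      (Nat.card K : ℂ) * ∑ χ : IrrCharacter K,
        (χ : K → ℂ) x * (χ : K → ℂ) y * conj ((χ : K → ℂ) z) / (χ : K → ℂ) 1 := by
  classical
  have h := H84.coeff_classSum_mul_eq x y z
  rw [H84.coeff_classSum_mul] at h
  rw [show Nat.card {g : K // IsConj x g ∧ IsConj y (g⁻¹ * z)} =
      (Finset.univ.filter fun g : K => IsConj x g ∧ IsConj y (g⁻¹ * z)).card by
    rw [Nat.card_eq_fintype_card, Fintype.card_subtype], h, Finset.mul_sum, Finset.mul_sum,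
    Finset.mul_sum]
  refine Finset.sum_congr rfl fun χ _ => ?_
  have hx := congrArg (Nat.cast : ℕ → ℂ) (Subgroup.centralizer ({x} : Set K)).card_mul_index
  have hy := congrArg (Nat.cast : ℕ → ℂ) (Subgroup.centralizer ({y} : Set K)).card_mul_index
  have h1 := IsIrr.one_ne_zero χ.2
  have hK : (Nat.card K : ℂ) ≠ 0 := Nat.cast_ne_zero.2 Nat.card_pos.ne'
  push_cast at hx hy
  unfold Cfsg.centralChar
  field_simp
  linear_combination
    ((χ : K → ℂ) x * (χ : K → ℂ) y * conj ((χ : K → ℂ) z) *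
      ((Nat.card ↥(Subgroup.centralizer ({y} : Set K)) : ℂ) *
        ((Subgroup.centralizer ({y} : Set K)).index : ℂ))) * hx +
    ((χ : K → ℂ) x * (χ : K → ℂ) y * conj ((χ : K → ℂ) z) * (Nat.card K : ℂ)) * hy

variable {χ : K → ℂ}

/-- The sum over a cyclic group of order four. -/
theorem sum_four {M : Type*} [AddCommMonoid M] (f : Multiplicative (ZMod 4) → M) :
    ∑ a, f a = f 1 + f (Multiplicative.ofAdd 1) + f (Multiplicative.ofAdd 2) +
      f (Multiplicative.ofAdd 3) := by
  have h : (Finset.univ : Finset (Multiplicative (ZMod 4))) =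
      {1, Multiplicative.ofAdd 1, Multiplicative.ofAdd 2, Multiplicative.ofAdd 3} := by decide
  rw [h]
  simp (decide := true) [Finset.sum_insert, add_assoc]

/-- The homomorphism given by an element of order dividing four. -/
def fourHom {w : K} (hw : w ^ 4 = 1) : Multiplicative (ZMod 4) →* K where
  toFun a := w ^ (Multiplicative.toAdd a).val
  map_one' := by simp
  map_mul' a b := by
    rw [← pow_add, toAdd_mul, ZMod.val_add]
    exact (pow_eq_pow_mod _ hw).symm

/-- Values at elements of order four conjugate to their inverses are integers. -/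
theorem exists_int_four (hχ : IsCharacter K χ) {w : K} (hw : w ^ 4 = 1) (hrev : IsConj w w⁻¹) :
    ∃ b : ℤ, χ w = b := by
  classical
  have hΦ := CharInduce.IsChar.comp hχ (fourHom hw)
  obtain ⟨n0, h0⟩ := classInner_isChar_nat hΦ (CharInduce.isCharacter_hom 1)
  obtain ⟨n2, h2⟩ := classInner_isChar_nat hΦ (CharInduce.isCharacter_hom
    (H65.CentralFour.sgnHom.comp (AddMonoidHom.toMultiplicative
      (ZMod.castHom (show 2 ∣ 4 by norm_num) (ZMod 2)).toAddMonoidHom)))
  rw [classInner, sum_four] at h0 h2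
  obtain ⟨g, hg⟩ := isConj_iff.1 hrev
  have h3 : χ (w ^ 3) = χ w := by
    rw [← inv_eq_of_mul_eq_one_right (a := w) (b := w ^ 3) (by rw [← pow_succ', hw]), ← hg]
    exact IsChar.isClassFunction hχ w g
  have key : (Multiplicative.ofAdd (ZMod.cast (1 : ZMod 4) : ZMod 2)) ≠ 1 := by decide
  have key2 : (Multiplicative.ofAdd (ZMod.cast (2 : ZMod 4) : ZMod 2)) = 1 := by decide
  have key3 : (Multiplicative.ofAdd (ZMod.cast (3 : ZMod 4) : ZMod 2)) ≠ 1 := by decide
  simp [fourHom, H65.CentralFour.sgnHom, key, key2, key3, Nat.card_eq_fintype_card,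
    show (2 : ZMod 4).val = 2 from rfl, show (3 : ZMod 4).val = 3 from rfl,
    show (1 : ZMod 4).val = 1 from rfl, h3] at h0 h2
  refine ⟨(n0 : ℤ) - n2, ?_⟩
  push_cast
  linear_combination h0 - h2

/-- Values at involutions are integers. -/
theorem exists_int_two (hχ : IsCharacter K χ) {v : K} (hv : orderOf v = 2) :
    ∃ a : ℤ, χ v = a := by
  obtain ⟨n, hn⟩ := H65.CentralFour.degree_sub_even hv hχ
  obtain ⟨d, hd⟩ := IsChar.exists_degree hχ
  exact ⟨(d : ℤ) - 2 * n, by push_cast; linear_combination hd - hn⟩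

/-- The sum over a four-group is a multiple of four. -/
theorem four_group_sum (hχ : IsCharacter K χ) {t e : K} (ht : orderOf t = 2) (he : orderOf e = 2)
    (hte : Commute t e) :
    ∃ n : ℕ, χ 1 + χ t + χ e + χ (t * e) = 4 * n := by
  classical
  let φ : Multiplicative (ZMod 2) × Multiplicative (ZMod 2) →* K :=
    MonoidHom.noncommCoprod (H65.CentralFour.twoHom (H65.mul_self_eq_one ht))
      (H65.CentralFour.twoHom (H65.mul_self_eq_one he)) fun a b => by
        rcases c2_cases a with rfl | rfl <;> rcases c2_cases b with rfl | rfl <;>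
          simp [H65.CentralFour.twoHom, H65.CentralFour.ofAdd_one_ne, hte]
  obtain ⟨n, hn⟩ := classInner_isChar_nat (CharInduce.IsChar.comp hχ φ)
    (CharInduce.isCharacter_hom 1)
  refine ⟨n, ?_⟩
  rw [classInner, Fintype.sum_prod_type, H65.CentralFour.sum_two, H65.CentralFour.sum_two,
    H65.CentralFour.sum_two] at hn
  simp [φ, H65.CentralFour.twoHom, H65.CentralFour.ofAdd_one_ne, Nat.card_eq_fintype_card] at hn
  linear_combination 4 * hn

/-- The equation coming from an outer element of order four with centraliser of order four. -/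
theorem column_four (H : Subgroup K) (hidx : H.index = 2) (t e w f : K) (ht : orderOf t = 2)
    (he : orderOf e = 2) (hf : orderOf f = 2) (htH : t ∈ H) (hwH : w ∉ H) (hfH : f ∉ H)
    (hw : orderOf w = 4) (hcw : Nat.card ↥(Subgroup.centralizer ({w} : Set K)) = 4)
    (hrev : IsConj w w⁻¹) (hte : IsConj t e) (hte2 : IsConj t (t * e)) (hcte : Commute t e)
    (Ct Cf : ℕ) (hCt : Nat.card ↥(Subgroup.centralizer ({t} : Set K)) = Ct)
    (hCf : Nat.card ↥(Subgroup.centralizer ({f} : Set K)) = Cf)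
    (hcount : Nat.card {g : K // IsConj t g ∧ IsConj f (g⁻¹ * w)} = 2) :
    ∃ x c : ℤ, 0 < x ∧ 0 ≤ x + 3 * c ∧
      (Nat.card K : ℤ) * (x - c) = x * (Ct * Cf) := by
  classical
  set lam := signChar H hidx with hlam
  have hw4 : w ^ 4 = 1 := hw ▸ pow_orderOf_eq_one w
  choose d hdp hd using fun χ : IrrCharacter K => IsIrr.exists_degree χ.2
  choose b hb using fun χ : IrrCharacter K =>
    exists_int_four (IsIrr.isCharacter χ.2) hw4 hrev
  choose a ha using fun χ : IrrCharacter K => exists_int_two (IsIrr.isCharacter χ.2) ht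
  choose r hr using fun χ : IrrCharacter K => exists_int_two (IsIrr.isCharacter χ.2) hf
  let one : IrrCharacter K := ⟨fun _ => 1, isIrrCharacter_one⟩
  let L : IrrCharacter K := ⟨fun g => (lam g : ℂ), CharInduce.isIrrCharacter_hom lam⟩
  let tw : IrrCharacter K → IrrCharacter K := fun χ =>
    ⟨fun g => (lam g : ℂ) * (χ : K → ℂ) g, H84.isIrr_hom_mul lam χ⟩
  have hbone : b one = 1 := by
    have h : (1 : ℂ) = (b one : ℂ) := hb one
    exact_mod_cast h.symm
  have hbL : b L = -1 := by
    have h := hb L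
    change ((lam w : ℂˣ) : ℂ) = _ at h
    rw [hlam, signChar_notMem hidx hwH] at h
    exact_mod_cast h.symm
  have hbtw : ∀ χ, b (tw χ) = - b χ := by
    intro χ
    have h := hb (tw χ)
    change ((lam w : ℂˣ) : ℂ) * (χ : K → ℂ) w = _ at h
    rw [hlam, signChar_notMem hidx hwH, hb χ, neg_one_mul] at h
    exact_mod_cast h.symm
  have hbb : ∑ χ, b χ * b χ = 4 := by
    have h := second_orthogonality_self w
    rw [hcw] at h
    simp only [hb, map_intCast] at h
    exact_mod_cast h
  have honeL : one ≠ L := fun h => by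
    rw [← h, hbone] at hbL; omega
  set E := ((Finset.univ : Finset (IrrCharacter K)).erase one).erase L with hE
  have hsum : ∑ χ ∈ E, b χ * b χ = 2 := by
    have h1 := Finset.add_sum_erase (Finset.univ : Finset (IrrCharacter K))
      (fun χ => b χ * b χ) (Finset.mem_univ one)
    have h2 := Finset.add_sum_erase ((Finset.univ : Finset (IrrCharacter K)).erase one)
      (fun χ => b χ * b χ) (Finset.mem_erase.2 ⟨honeL.symm, Finset.mem_univ L⟩)
    rw [hbb, ← h2, hbone, hbL] at h1
    rw [hE]; linarith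
  obtain ⟨χ, hχE, hχb⟩ : ∃ χ ∈ E, b χ ≠ 0 := by
    by_contra hcon
    push Not at hcon
    rw [Finset.sum_eq_zero fun χ hχ => by rw [hcon χ hχ, mul_zero]] at hsum
    omega
  have hχ1 : χ ≠ one := (Finset.mem_erase.1 (Finset.mem_erase.1 hχE).2).1
  have hχL : χ ≠ L := (Finset.mem_erase.1 hχE).1
  have hlam2 : ∀ g : K, ((lam g : ℂˣ) : ℂ) * (lam g : ℂ) = 1 := fun g => by
    by_cases hg : g ∈ H
    · rw [hlam, signChar_mem hidx hg, one_mul]
    · rw [hlam, signChar_notMem hidx hg]; norm_num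
  have htwE : tw χ ∈ E := by
    refine Finset.mem_erase.2 ⟨fun he' => hχ1 ?_, Finset.mem_erase.2
      ⟨fun he' => hχL ?_, Finset.mem_univ _⟩⟩
    · refine Subtype.ext (funext fun g => ?_)
      have h : ((lam g : ℂˣ) : ℂ) * (χ : K → ℂ) g = (lam g : ℂ) :=
        congrFun (congrArg Subtype.val he') g
      exact mul_left_cancel₀ (Units.ne_zero (lam g)) (h.trans (mul_one _).symm)
    · refine Subtype.ext (funext fun g => ?_)
      have h : ((lam g : ℂˣ) : ℂ) * (χ : K → ℂ) g = 1 :=
        congrFun (congrArg Subtype.val he') g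
      show (χ : K → ℂ) g = (lam g : ℂ)
      linear_combination (lam g : ℂ) * h - (χ : K → ℂ) g * hlam2 g
  have hne : tw χ ≠ χ := fun h => hχb (by
    have := hbtw χ; rw [h] at this; omega)
  set E' := (E.erase χ).erase (tw χ) with hE'
  have hsplit2 : b χ * b χ + (b χ * b χ + ∑ x ∈ E', b x * b x) = 2 := by
    have h1 := Finset.add_sum_erase E (fun χ => b χ * b χ) hχE
    have h2 := Finset.add_sum_erase (E.erase χ) (fun χ => b χ * b χ)
      (Finset.mem_erase.2 ⟨hne, htwE⟩)
    rw [← h2, hbtw, neg_mul_neg, hsum] at h1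
    exact h1
  have hpos : 0 ≤ ∑ x ∈ E', b x * b x := Finset.sum_nonneg fun x _ => mul_self_nonneg _
  have hsq : 1 ≤ b χ * b χ := by
    rcases lt_or_gt_of_ne hχb with h | h <;> nlinarith
  have hbχ : b χ * b χ = 1 := by omega
  have hzero : ∀ ψ, ψ ≠ one → ψ ≠ L → ψ ≠ χ → ψ ≠ tw χ → b ψ = 0 := by
    intro ψ h1 h2 h3 h4
    have h0 : ∑ x ∈ E', b x * b x = 0 := by omega
    have := (Finset.sum_eq_zero_iff_of_nonneg fun x _ => mul_self_nonneg (b x)).1 h0 ψ
      (Finset.mem_erase.2 ⟨h4, Finset.mem_erase.2 ⟨h3, Finset.mem_erase.2 ⟨h2,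
        Finset.mem_erase.2 ⟨h1, Finset.mem_univ _⟩⟩⟩⟩)
    exact mul_self_eq_zero.1 this
  have hfour : ∀ F : IrrCharacter K → ℂ, (∀ ψ, b ψ = 0 → F ψ = 0) →
      ∑ ψ, F ψ = F one + F L + F χ + F (tw χ) := by
    intro F hF
    rw [← Finset.sum_subset (Finset.subset_univ ({one, L, χ, tw χ} : Finset (IrrCharacter K)))]
    · rw [Finset.sum_insert, Finset.sum_insert, Finset.sum_pair hne.symm, add_assoc, add_assoc]
      · simp only [Finset.mem_insert, Finset.mem_singleton, not_or]
        exact ⟨fun h => hχL h.symm, fun h => (Finset.mem_erase.1 htwE).1 h.symm⟩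
      · simp only [Finset.mem_insert, Finset.mem_singleton, not_or]
        exact ⟨honeL, fun h => hχ1 h.symm,
          fun h => (Finset.mem_erase.1 (Finset.mem_erase.1 htwE).2).1 h.symm⟩
    · intro ψ _ hψ
      simp only [Finset.mem_insert, Finset.mem_singleton, not_or] at hψ
      exact hF ψ (hzero ψ hψ.1 hψ.2.1 hψ.2.2.1 hψ.2.2.2)
  -- orthogonality with `f`
  have hwf : ¬ IsConj f w := fun h => by
    have := H65.orderOf_of_isConj h; omega
  have horth : (b χ : ℂ) * (r χ : ℂ) = -1 := by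
    have h := second_orthogonality_not_isConj hwf
    rw [hfour _ (fun ψ hψ => by rw [hb ψ, hψ]; simp)] at h
    change (1 : ℂ) * conj (1 : ℂ) + (lam f : ℂ) * conj ((lam w : ℂˣ) : ℂ) +
      (χ : K → ℂ) f * conj ((χ : K → ℂ) w) +
      (lam f : ℂ) * (χ : K → ℂ) f * conj (((lam w : ℂˣ) : ℂ) * (χ : K → ℂ) w) = 0 at h
    rw [hlam, signChar_notMem hidx hfH, signChar_notMem hidx hwH, hb χ, hr χ] at h
    simp only [map_neg, map_one, map_mul, map_intCast] at h
    linear_combination h / 2
  -- the class multiplication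
  have hcc := class_count t f w
  rw [hcount, hCt, hCf, hfour _ (fun ψ hψ => by rw [hb ψ, hψ]; simp)] at hcc
  change (Ct : ℂ) * Cf * ((2 : ℕ) : ℂ) = (Nat.card K : ℂ) * ((1 : ℂ) * 1 * conj (1 : ℂ) / 1 +
    (lam t : ℂ) * (lam f : ℂ) * conj ((lam w : ℂˣ) : ℂ) / ((lam 1 : ℂˣ) : ℂ) +
    (χ : K → ℂ) t * (χ : K → ℂ) f * conj ((χ : K → ℂ) w) / (χ : K → ℂ) 1 +
    (lam t : ℂ) * (χ : K → ℂ) t * ((lam f : ℂ) * (χ : K → ℂ) f) *
      conj (((lam w : ℂˣ) : ℂ) * (χ : K → ℂ) w) /
      (((lam 1 : ℂˣ) : ℂ) * (χ : K → ℂ) 1)) at hcc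
  rw [hlam, signChar_notMem hidx hfH, signChar_notMem hidx hwH, signChar_mem hidx htH,
    signChar_mem hidx H.one_mem, hb χ, hr χ, ha χ, hd χ] at hcc
  simp only [map_neg, map_one, map_mul, map_intCast] at hcc
  have hd0 : (d χ : ℂ) ≠ 0 := by rw [← hd χ]; exact IsIrr.one_ne_zero χ.2
  -- the four-group
  obtain ⟨n, hn⟩ := four_group_sum (IsIrr.isCharacter χ.2) ht he hcte
  obtain ⟨k, hk⟩ := isConj_iff.1 hte
  obtain ⟨k', hk'⟩ := isConj_iff.1 hte2
  rw [show (χ : K → ℂ) e = (χ : K → ℂ) t by rw [← hk]; exact IsIrr.isClassFunction χ.2 t k,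
    show (χ : K → ℂ) (t * e) = (χ : K → ℂ) t by
      rw [← hk']; exact IsIrr.isClassFunction χ.2 t k', ha χ, hd χ] at hn
  refine ⟨d χ, a χ, ?_, ?_, ?_⟩
  · exact_mod_cast Nat.pos_of_ne_zero fun h => hd0 (by rw [h]; simp)
  · have : ((d χ : ℤ) + 3 * a χ : ℤ) = 4 * (n : ℤ) := by
      have h' : (((d χ : ℤ) + 3 * a χ : ℤ) : ℂ) = ((4 * (n : ℤ) : ℤ) : ℂ) := by
        push_cast; linear_combination hn
      exact_mod_cast h'
    omega
  · have h' : (((Nat.card K : ℤ) * ((d χ : ℤ) - a χ) : ℤ) : ℂ) =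
        (((d χ : ℤ) * ((Ct : ℤ) * Cf) : ℤ) : ℂ) := by
      push_cast
      field_simp at hcc
      linear_combination (-1 / 2 : ℂ) * hcc - (Nat.card K : ℂ) * (a χ : ℂ) * horth
    exact_mod_cast h'

end Cfsg.Agent.H83.SmallCent
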