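import Cfsg.Agent.H83.SmallCent.Orders
import Mathlib.GroupTheory.GroupAction.Jordan
import Mathlib.GroupTheory.GroupAction.Primitive
import Mathlib.GroupTheory.Perm.Cycle.Type

/-!
Excluding the orders `360 a⁴`, `168 a⁴` and `7560`.
-/

set_option autoImplicit false
set_option linter.unusedSectionVars false
set_option linter.style.haveILetI false

namespace Cfsg.Agent.H83.SmallCent

open Subgroup

universe u

variable {G : Type u} [Group G] [Finite G] [IsSimpleGroup G]

theorem toPermHom_injective {N : Subgroup G} (hN : N ≠ ⊤) :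
    Function.Injective (MulAction.toPermHom G (G ⧸ N)) := by
  rw [← MonoidHom.ker_eq_bot_iff, ← Subgroup.normalCore_eq_ker]
  rcases N.normalCore_normal.eq_bot_or_eq_top with h | h
  · exact h
  · exact absurd (top_le_iff.1 (h ▸ N.normalCore_le)) hN

theorem card_dvd_factorial {N : Subgroup G} (hN : N ≠ ⊤) : Nat.card G ∣ N.index.factorial := by
  have h := Subgroup.card_dvd_of_injective _ (toPermHom_injective hN)
  rwa [Nat.card_perm, ← Subgroup.index_eq_card] at h

/-- A simple group of order 29160 has no subgroup of index fifteen. -/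
theorem no_index_fifteen (hG : Nat.card G = 29160) (N : Subgroup G) (hN : N.index = 15) : False := by
  classical
  haveI : Fact (Nat.Prime 3) := ⟨Nat.prime_three⟩
  haveI := Fintype.ofFinite G
  have hNtop : N ≠ ⊤ := fun h => by rw [h, Subgroup.index_top] at hN; omega
  haveI : Fintype (G ⧸ N) := Fintype.ofFinite _
  have hX : Fintype.card (G ⧸ N) = 15 := by
    rw [← Nat.card_eq_fintype_card, ← Subgroup.index_eq_card, hN]
  set f := MulAction.toPermHom G (G ⧸ N) with hf
  have hinj : Function.Injective f := toPermHom_injective hNtop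
  set R := f.range with hR
  have hRcard : Nat.card R = 29160 := by
    rw [← hG]; exact (Nat.card_congr (MonoidHom.ofInjective hinj).toEquiv).symm
  -- the natural action is primitive
  haveI : Nontrivial (G ⧸ N) := Fintype.one_lt_card_iff_nontrivial.1 (by rw [hX]; norm_num)
  have hco : IsCoatom N := by
    refine ⟨hNtop, fun M hM => by_contra fun hMt => ?_⟩
    have h1 : M.index ∣ 15 := hN ▸ Subgroup.index_dvd_of_le hM.le
    have h2 : M.index ≠ 15 := by
      intro h3
      refine hM.ne (Subgroup.eq_of_le_of_card_ge hM.le ?_)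
      have e1 := N.card_mul_index
      have e2 := M.card_mul_index
      rw [hN] at e1; rw [h3] at e2; omega
    have h3 : M.index ≠ 1 := fun h => hMt (Subgroup.index_eq_one.1 h)
    have h4 := card_dvd_factorial hMt
    have h5 : M.index ∈ ({1, 3, 5, 15} : Finset ℕ) := by
      rw [show ({1, 3, 5, 15} : Finset ℕ) = Nat.divisors 15 by decide]
      exact Nat.mem_divisors.2 ⟨h1, by norm_num⟩
    simp only [Finset.mem_insert, Finset.mem_singleton] at h5
    rw [hG] at h4
    rcases h5 with e | e | e | e
    · exact h3 e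
    · rw [e] at h4; norm_num [Nat.factorial] at h4
    · rw [e] at h4; norm_num [Nat.factorial] at h4
    · exact h2 e
  haveI hpp : MulAction.IsPreprimitive G (G ⧸ N) := by
    rw [← MulAction.isCoatom_stabilizer_iff_preprimitive G ((1 : G) : G ⧸ N)]
    rwa [MulAction.stabilizer_quotient]
  have hppR : MulAction.IsPreprimitive R (G ⧸ N) := by
    let φ : G ⧸ N →ₑ[f.rangeRestrict] (G ⧸ N) := { toFun := id, map_smul' := fun g x => rfl }
    exact MulAction.IsPreprimitive.of_surjective (f := φ) Function.surjective_id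
  -- a Sylow subgroup of the symmetric group lies in the image
  obtain ⟨P⟩ : Nonempty (Sylow 3 R) := inferInstance
  have hP : Nat.card P = 3 ^ 6 := by
    rw [P.card_eq_multiplicity, hRcard, show (29160 : ℕ) = 3 ^ 6 * 40 by norm_num,
      Nat.factorization_mul (by norm_num) (by norm_num), Finsupp.add_apply,
      Nat.factorization_pow, Finsupp.smul_apply, Nat.Prime.factorization_self Nat.prime_three,
      Nat.factorization_eq_zero_of_not_dvd (by norm_num : ¬ 3 ∣ 40)]
    norm_num
  have hperm : (Nat.card (Equiv.Perm (G ⧸ N))).factorization 3 = 6 := by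
    rw [Nat.card_perm, ← Subgroup.index_eq_card, hN, show Nat.factorial 15 = 3 ^ 6 * 1793792000 by
        norm_num [Nat.factorial],
      Nat.factorization_mul (by norm_num) (by norm_num), Finsupp.add_apply,
      Nat.factorization_pow, Finsupp.smul_apply, Nat.Prime.factorization_self Nat.prime_three,
      Nat.factorization_eq_zero_of_not_dvd (by norm_num : ¬ 3 ∣ 1793792000)]
    norm_num
  let Q : Sylow 3 (Equiv.Perm (G ⧸ N)) := Sylow.ofCard ((P : Subgroup R).map R.subtype)
    (by rw [Subgroup.card_map_of_injective R.subtype_injective, hperm]; exact hP)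
  obtain ⟨s, hs⟩ : ∃ s : Finset (G ⧸ N), s.card = 3 := by
    obtain ⟨s, -, hs⟩ := Finset.exists_subset_card_eq
      (s := (Finset.univ : Finset (G ⧸ N))) (n := 3) (by rw [Finset.card_univ, hX]; norm_num)
    exact ⟨s, hs⟩
  obtain ⟨a, b, c, hab, hac, hbc, -⟩ := Finset.card_eq_three.1 hs
  set σ : Equiv.Perm (G ⧸ N) := Equiv.swap a b * Equiv.swap a c with hσ
  have h3c : σ.IsThreeCycle := Equiv.Perm.isThreeCycle_swap_mul_swap_same hab hac hbc
  obtain ⟨T, hT⟩ := (IsPGroup.of_card (p := 3) (n := 1) (G := ↥(zpowers σ))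
    (by rw [Nat.card_zpowers, h3c.orderOf, pow_one])).exists_le_sylow
  obtain ⟨k, hk⟩ := MulAction.exists_smul_eq (Equiv.Perm (G ⧸ N)) T Q
  have hmem : k * σ * k⁻¹ ∈ R := by
    have h1 : k * σ * k⁻¹ ∈ (Q : Subgroup (Equiv.Perm (G ⧸ N))) := by
      rw [← hk]
      exact Subgroup.smul_mem_pointwise_smul σ (MulAut.conj k) _ (hT (mem_zpowers σ))
    obtain ⟨z, -, hz⟩ := Subgroup.mem_map.1 h1
    exact hz ▸ z.2
  have h3' : (k * σ * k⁻¹).IsThreeCycle := by
    show (k * σ * k⁻¹).cycleType = {3}
    rw [Equiv.Perm.cycleType_conj]; exact h3c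
  have hle := Equiv.Perm.alternatingGroup_le_of_isPreprimitive_of_isThreeCycle_mem hppR h3' hmem
  have h := Subgroup.card_dvd_of_le hle
  rw [nat_card_alternatingGroup, ← Subgroup.index_eq_card, hN] at h
  rw [hRcard] at h
  norm_num [Nat.factorial] at h

/-- A subgroup `A` normalised by a subgroup `K` of index fifteen or seven, `|G| = |K|·N`. -/
theorem both_nontrivial {a n : ℕ} (ha : 3 ≤ a) (hodd : a % 2 = 1) (A K : Subgroup G)
    (hA : Nat.card A = a) (hKA : ∀ k ∈ K, ∀ x ∈ A, k * x * k⁻¹ ∈ A)
    (hK : Nat.card K = 24 * a ^ 4) (hG : Nat.card G = 24 * a ^ 4 * n) (hn : n = 15 ∨ n = 7) :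
    False := by
  set M := Subgroup.normalizer (A : Set G) with hMdef
  have hKM : K ≤ M := by
    intro k hk
    rw [hMdef, Subgroup.mem_normalizer_iff]
    refine fun x => ⟨fun hx => hKA k hk x hx, fun hx => ?_⟩
    have h := hKA k⁻¹ (inv_mem hk) _ hx
    rwa [show k⁻¹ * (k * x * k⁻¹) * k⁻¹⁻¹ = x by group] at h
  have ha4 : 81 ≤ a ^ 4 := (Nat.pow_le_pow_left ha 4).trans' (by norm_num)
  have hMtop : M ≠ ⊤ := by
    intro h
    rcases (Subgroup.normalizer_eq_top_iff.1 h).eq_bot_or_eq_top with h1 | h1
    · rw [h1, Subgroup.card_bot] at hA; omega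
    · rw [h1, Subgroup.card_top, hG] at hA
      have h2 : a ≤ a ^ 4 := Nat.le_self_pow (by norm_num) a
      rcases hn with rfl | rfl <;> omega
  have hidx : M.index ∣ n := by
    have h1 := Subgroup.index_dvd_of_le hKM
    have h2 := K.card_mul_index
    rw [hK, hG] at h2
    rwa [Nat.eq_of_mul_eq_mul_left (by positivity) h2] at h1
  have h1 : M.index ≠ 1 := fun h => hMtop (Subgroup.index_eq_one.1 h)
  have hf := card_dvd_factorial hMtop
  have hle := Nat.le_of_dvd (Nat.factorial_pos _) hf
  rw [hG] at hf hle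
  rcases hn with rfl | rfl
  · have h5 : M.index ∈ ({1, 3, 5, 15} : Finset ℕ) := by
      rw [show ({1, 3, 5, 15} : Finset ℕ) = Nat.divisors 15 by decide]
      exact Nat.mem_divisors.2 ⟨hidx, by norm_num⟩
    simp only [Finset.mem_insert, Finset.mem_singleton] at h5
    rcases h5 with e | e | e | e
    · exact h1 e
    · rw [e] at hle; norm_num [Nat.factorial] at hle; omega
    · rw [e] at hle; norm_num [Nat.factorial] at hle; omega
    · rw [e] at hf
      have h6 : a ^ 4 ∣ 3632428800 := by
        rw [show Nat.factorial 15 = 360 * 3632428800 by norm_num [Nat.factorial],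
          show 24 * a ^ 4 * 15 = 360 * a ^ 4 by ring] at hf
        exact Nat.dvd_of_mul_dvd_mul_left (by norm_num) hf
      rcases a_pow_four_dvd hodd h6 with rfl | rfl
      · omega
      · exact no_index_fifteen (by rw [hG]; norm_num) M e
  · rcases (Nat.dvd_prime (by norm_num)).1 hidx with e | e
    · exact h1 e
    · rw [e] at hle; norm_num [Nat.factorial] at hle; omega

/-- No simple group of order 7560 has a subgroup of order five with centraliser of order 60 or 700
and a normalising subgroup of order twice that. -/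
theorem not_7560 (hG : Nat.card G = 7560) (A K : Subgroup G) (hA : Nat.card A = 5)
    (hC : Nat.card ↥(centralizer (A : Set G)) = 60) (hK : Nat.card K = 120)
    (hKA : ∀ k ∈ K, ∀ x ∈ A, k * x * k⁻¹ ∈ A) : False := by
  haveI : Fact (Nat.Prime 5) := ⟨by norm_num⟩
  set M := Subgroup.normalizer (A : Set G) with hMdef
  have hKM : K ≤ M := by
    intro k hk
    rw [hMdef, Subgroup.mem_normalizer_iff]
    refine fun x => ⟨fun hx => hKA k hk x hx, fun hx => ?_⟩
    have h := hKA k⁻¹ (inv_mem hk) _ hx
    rwa [show k⁻¹ * (k * x * k⁻¹) * k⁻¹⁻¹ = x by group] at h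
  let P : Sylow 5 G := Sylow.ofCard A (by
    rw [hA, hG, show (7560 : ℕ) = 5 * 1512 by norm_num,
      Nat.factorization_mul (by norm_num) (by norm_num), Finsupp.add_apply,
      Nat.Prime.factorization_self (by norm_num),
      Nat.factorization_eq_zero_of_not_dvd (by norm_num : ¬ 5 ∣ 1512)]
    norm_num)
  have hn : Nat.card (Sylow 5 G) = M.index := P.card_eq_index_normalizer
  have hmod := card_sylow_modEq_one 5 G
  rw [hn] at hmod
  have hidx : M.index ∣ 63 := by
    have h1 := Subgroup.index_dvd_of_le hKM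
    have h2 := K.card_mul_index
    rw [hK, hG] at h2
    rwa [show K.index = 63 by omega] at h1
  have hM1 : M.index ≠ 1 := by
    intro h
    rcases (Subgroup.normalizer_eq_top_iff.1 (Subgroup.index_eq_one.1 h)).eq_bot_or_eq_top with
      h1 | h1
    · rw [h1, Subgroup.card_bot] at hA; omega
    · rw [h1, Subgroup.card_top, hG] at hA; omega
  have hM : M.index = 21 := by
    have h5 : M.index ∈ ({1, 3, 7, 9, 21, 63} : Finset ℕ) := by
      rw [show ({1, 3, 7, 9, 21, 63} : Finset ℕ) = Nat.divisors 63 by decide]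
      exact Nat.mem_divisors.2 ⟨hidx, by norm_num⟩
    simp only [Finset.mem_insert, Finset.mem_singleton] at h5
    unfold Nat.ModEq at hmod
    omega
  have hcard : Nat.card M = 360 := by
    have := M.card_mul_index
    rw [hG, hM] at this; omega
  -- the quotient by the centraliser embeds in a group of order four
  have hker := A.normalizerMonoidHom_ker
  have h1 := (A.normalizerMonoidHom).ker.card_mul_index
  have h2 : Nat.card ↥(A.normalizerMonoidHom).ker = 60 := by
    rw [hker, Nat.card_congr (Subgroup.subgroupOfEquivOfLe (Subgroup.centralizer_le_normalizer _)).toEquiv,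
      hC]
  rw [h2, hcard] at h1
  have h3 : (A.normalizerMonoidHom).ker.index ∣ Nat.card (MulAut ↥A) := by
    rw [Subgroup.index_ker]
    exact Subgroup.card_subgroup_dvd_card _
  haveI : IsCyclic ↥A := isCyclic_of_prime_card (p := 5) hA
  rw [IsCyclic.card_mulAut, hA, Nat.totient_prime (by norm_num)] at h3
  have h4 := Nat.le_of_dvd (by norm_num) h3
  omega

end Cfsg.Agent.H83.SmallCent
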