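import Cfsg.Agent.H65.Invol
import Mathlib

/-!
The centraliser of an involution which is the square of a self-centralising element of order four:
`C(t) = O ⋊ D₈`, the decomposition `O = O^e × O^{ew}`, and the normaliser of a four-group.
-/

set_option autoImplicit false
set_option linter.unusedSectionVars false
set_option linter.style.haveILetI false

namespace Cfsg.Agent.H83.SmallCent

open Subgroup

universe u

variable {G : Type u} [Group G] [Finite G]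

/-- An element of order four, an involution inverting it, and the core of the centraliser of the
square. -/
structure Setup (w e : G) (O : Subgroup G) : Prop where
  ow : orderOf w = 4
  oe : orderOf e = 2
  inv : e * w * e⁻¹ = w⁻¹
  cent : ∀ g : G, Commute g w → g ∈ zpowers w
  conj : ∀ v : G, orderOf v = 2 → IsConj (w ^ 2) v
  le : ∀ x ∈ O, Commute x (w ^ 2)
  odd : Odd (Nat.card O)
  norm : ∀ c : G, Commute c (w ^ 2) → ∀ x ∈ O, c * x * c⁻¹ ∈ O
  two : IsPGroup 2 ↥(closure ({w, e} : Set G))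
  decomp : ∀ c : G, Commute c (w ^ 2) → ∃ x ∈ O, ∃ i < 4, ∃ j < 2, c = x * (w ^ i * e ^ j)

/-- The fixed points of `e` on `O`. -/
abbrev fx (O : Subgroup G) (e : G) : Subgroup G := O ⊓ centralizer {e}

theorem sq_root {K : Subgroup G} (hodd : Odd (Nat.card K)) {x : G} (hx : x ∈ K) :
    ∃ y ∈ K, y * y = x := by
  obtain ⟨k, hk⟩ := hodd
  have h : x ^ Nat.card K = 1 := orderOf_dvd_iff_pow_eq_one.1 (K.orderOf_dvd_natCard hx)
  refine ⟨x ^ (k + 1), pow_mem hx _, ?_⟩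
  rw [← pow_add, show k + 1 + (k + 1) = Nat.card K + 1 by omega, pow_succ, h, one_mul]

theorem eq_one_of_sq {K : Subgroup G} (hodd : Odd (Nat.card K)) {x : G} (hx : x ∈ K)
    (h2 : x * x = 1) : x = 1 := by
  obtain ⟨k, hk⟩ := hodd
  have h : x ^ Nat.card K = 1 := orderOf_dvd_iff_pow_eq_one.1 (K.orderOf_dvd_natCard hx)
  rwa [hk, pow_succ, pow_mul, sq, h2, one_pow, one_mul] at h

theorem odd_of_le {H K : Subgroup G} (h : H ≤ K) (hodd : Odd (Nat.card K)) :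
    Odd (Nat.card H) := by
  obtain ⟨c, hc⟩ := Subgroup.card_dvd_of_le h
  rw [hc] at hodd
  exact (Nat.odd_mul.1 hodd).1

namespace Setup

variable {w e : G} {O : Subgroup G}

section

variable (h : Setup w e O)
include h

theorem w4 : w ^ 4 = 1 := h.ow ▸ pow_orderOf_eq_one w

theorem e2 : e * e = 1 := H65.mul_self_eq_one h.oe

theorem e_inv : e⁻¹ = e := H65.inv_eq_self h.oe

theorem w_inv : w⁻¹ = w ^ 3 := inv_eq_of_mul_eq_one_right (by rw [← pow_succ', h.w4])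

theorem e_mul_w : e * w = w ^ 3 * e := by
  rw [← h.w_inv, ← h.inv]; group

theorem ot : orderOf (w ^ 2) = 2 := by
  rw [orderOf_pow, h.ow]; norm_num

theorem t2 : w ^ 2 * w ^ 2 = 1 := by rw [← pow_add, h.w4]

theorem t_inv : (w ^ 2)⁻¹ = w ^ 2 := inv_eq_of_mul_eq_one_right h.t2

theorem t_comm_e : Commute (w ^ 2) e := by
  show w ^ 2 * e = e * w ^ 2
  rw [sq w, ← mul_assoc e, h.e_mul_w, mul_assoc (w ^ 3), h.e_mul_w, ← mul_assoc, ← pow_add,
    show 3 + 3 = 4 + 2 by norm_num, pow_add, h.w4, one_mul, sq]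

theorem t_comm_w : Commute (w ^ 2) w := Commute.pow_self w 2

theorem t_comm_ew : Commute (w ^ 2) (e * w) := h.t_comm_e.mul_right h.t_comm_w

theorem w2_ne : w ^ 2 ≠ 1 := H65.ne_one_of_orderOf h.ot

theorem not_comm : ¬ Commute e w := by
  intro hc
  apply h.w2_ne
  have h1 := h.inv
  rw [hc.eq, mul_inv_cancel_right, eq_inv_iff_mul_eq_one, ← sq] at h1
  exact h1

theorem oew : orderOf (e * w) = 2 := by
  refine orderOf_eq_prime ?_ ?_
  · rw [sq]
    nth_rw 1 [h.e_mul_w]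
    rw [mul_assoc, ← mul_assoc e, h.e2, one_mul, ← pow_succ, h.w4]
  · intro h1
    apply h.not_comm
    rw [eq_inv_of_mul_eq_one_left h1]
    exact (Commute.refl w).inv_left

theorem ew_w : e * w * w = e * w ^ 2 := by rw [mul_assoc, sq]

/-- The other involution. -/
theorem swap : Setup w (e * w) O := by
  refine { h with oe := h.oew, inv := ?_, two := ?_, decomp := ?_ }
  · rw [← h.inv]; group
  · refine h.two.to_le ((closure_le _).2 ?_)
    rintro x (rfl | rfl)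
    · exact subset_closure (by simp)
    · exact mul_mem (subset_closure (by simp)) (subset_closure (by simp))
  · intro c hc
    obtain ⟨x, hx, i, hi, j, hj, rfl⟩ := h.decomp c hc
    interval_cases j
    · exact ⟨x, hx, i, hi, 0, by norm_num, by simp⟩
    · refine ⟨x, hx, (i + 1) % 4, Nat.mod_lt _ (by norm_num), 1, by norm_num, ?_⟩
      rw [pow_one, pow_one, h.e_mul_w, ← mul_assoc (w ^ _) (w ^ 3), ← pow_add]
      congr 2
      rw [pow_eq_pow_iff_modEq, h.ow]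
      show i % 4 = ((i + 1) % 4 + 3) % 4
      omega

theorem rep_mem (i j : ℕ) : w ^ i * e ^ j ∈ closure ({w, e} : Set G) :=
  mul_mem (pow_mem (subset_closure (by simp)) _) (pow_mem (subset_closure (by simp)) _)

theorem eq_one_of_mem {z : G} (hz : z ∈ O) (hz' : z ∈ closure ({w, e} : Set G)) : z = 1 := by
  obtain ⟨k, hk⟩ := h.two ⟨z, hz'⟩
  have hk' : z ^ 2 ^ k = 1 := congrArg Subtype.val hk
  have h1 : Nat.gcd (2 ^ k) (Nat.card O) = 1 :=
    Nat.Coprime.pow_left k ((Nat.coprime_two_left).2 h.odd)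
  have := pow_gcd_eq_one.2 ⟨hk', orderOf_dvd_iff_pow_eq_one.1 (O.orderOf_dvd_natCard hz)⟩
  rwa [h1, pow_one] at this

theorem decomp_unique {x x' : G} (hx : x ∈ O) (hx' : x' ∈ O) {i i' j j' : ℕ} (hi : i < 4)
    (hi' : i' < 4) (hj : j < 2) (hj' : j' < 2)
    (heq : x * (w ^ i * e ^ j) = x' * (w ^ i' * e ^ j')) : x = x' ∧ i = i' ∧ j = j' := by
  have h1 : x'⁻¹ * x = w ^ i' * e ^ j' * (w ^ i * e ^ j)⁻¹ := by
    rw [eq_mul_inv_iff_mul_eq, mul_assoc, heq, inv_mul_cancel_left]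
  have h2 : x'⁻¹ * x = 1 := h.eq_one_of_mem (mul_mem (inv_mem hx') hx)
    (h1 ▸ mul_mem (h.rep_mem _ _) (inv_mem (h.rep_mem _ _)))
  have hxx : x = x' := (inv_mul_eq_one.1 h2).symm
  subst hxx
  have h3 := mul_left_cancel heq
  have hjj : j = j' := by
    by_contra hne
    apply h.not_comm
    have : e ∈ zpowers w := by
      interval_cases j <;> interval_cases j'
      · omega
      · rw [pow_zero, mul_one, pow_one] at h3
        rw [show e = (w ^ i')⁻¹ * w ^ i by rw [h3, inv_mul_cancel_left]]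
        exact mul_mem (inv_mem (pow_mem (mem_zpowers w) _)) (pow_mem (mem_zpowers w) _)
      · rw [pow_zero, mul_one, pow_one] at h3
        rw [show e = (w ^ i)⁻¹ * w ^ i' by rw [← h3, inv_mul_cancel_left]]
        exact mul_mem (inv_mem (pow_mem (mem_zpowers w) _)) (pow_mem (mem_zpowers w) _)
      · omega
    obtain ⟨k, hk⟩ := mem_zpowers_iff.1 this
    rw [← hk]; exact (Commute.refl w).zpow_left k
  subst hjj
  exact ⟨rfl, pow_injOn_Iio_orderOf (by simp [h.ow, hi]) (by simp [h.ow, hi'])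
    (mul_right_cancel h3), rfl⟩

theorem conj_w {x : G} (hx : x ∈ O) : w * x * w⁻¹ = x⁻¹ := by
  have hmap : ∀ a ∈ O, a⁻¹ * (w * a * w⁻¹) ∈ O := fun a ha =>
    mul_mem (inv_mem ha) (h.norm w h.t_comm_w.symm a ha)
  have hinj : Function.Injective fun a : O =>
      (⟨(a : G)⁻¹ * (w * a * w⁻¹), hmap a a.2⟩ : O) := by
    intro a b hab
    have hab' : (a : G)⁻¹ * (w * a * w⁻¹) = (b : G)⁻¹ * (w * b * w⁻¹) := congrArg Subtype.val hab
    have hc : Commute ((b : G) * (a : G)⁻¹) w := by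
      show (b : G) * (a : G)⁻¹ * w = w * ((b : G) * (a : G)⁻¹)
      calc (b : G) * (a : G)⁻¹ * w = b * ((a : G)⁻¹ * (w * a * w⁻¹)) * w * (a : G)⁻¹ := by group
        _ = b * ((b : G)⁻¹ * (w * b * w⁻¹)) * w * (a : G)⁻¹ := by rw [hab']
        _ = w * ((b : G) * (a : G)⁻¹) := by group
    have h1 := h.eq_one_of_mem (mul_mem b.2 (inv_mem a.2))
      ((zpowers_le.2 (subset_closure (by simp))) (h.cent _ hc))
    exact Subtype.ext (mul_inv_eq_one.1 h1).symm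
  obtain ⟨a, ha⟩ := Finite.surjective_of_injective hinj ⟨x, hx⟩
  have ha' : (a : G)⁻¹ * (w * a * w⁻¹) = x := congrArg Subtype.val ha
  have hwa : w * (w * (a : G) * w⁻¹) * w⁻¹ = a := by
    calc w * (w * (a : G) * w⁻¹) * w⁻¹ = w ^ 2 * a * (w ^ 2)⁻¹ := by rw [sq]; group
      _ = a := mul_inv_eq_iff_eq_mul.2 (h.le a a.2).symm.eq
  rw [← ha']
  calc w * ((a : G)⁻¹ * (w * a * w⁻¹)) * w⁻¹
      = (w * a * w⁻¹)⁻¹ * (w * (w * (a : G) * w⁻¹) * w⁻¹) := by group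
    _ = ((a : G)⁻¹ * (w * a * w⁻¹))⁻¹ := by rw [hwa]; group

theorem comm {x y : G} (hx : x ∈ O) (hy : y ∈ O) : Commute x y := by
  have h1 := h.conj_w (mul_mem hx hy)
  rw [show w * (x * y) * w⁻¹ = (w * x * w⁻¹) * (w * y * w⁻¹) by group, h.conj_w hx, h.conj_w hy,
    ← mul_inv_rev, inv_inj] at h1
  exact h1.symm

theorem e_mem {x : G} (hx : x ∈ O) : e * x * e ∈ O := by
  have := h.norm e h.t_comm_e.symm x hx
  rwa [h.e_inv] at this

theorem mem_fx {x : G} : x ∈ fx O e ↔ x ∈ O ∧ e * x * e = x := by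
  rw [mem_inf, mem_centralizer_singleton_iff]
  refine and_congr_right fun _ => ⟨fun hc => ?_, fun hc => ?_⟩
  · rw [mul_assoc, hc, ← mul_assoc, h.e2, one_mul]
  · nth_rw 1 [← hc]; rw [mul_assoc, h.e2, mul_one]

theorem conj_ew {x : G} (hx : x ∈ O) : (e * w) * x * (e * w) = (e * x * e)⁻¹ := by
  nth_rw 2 [← H65.inv_eq_self h.oew]
  rw [show e * w * x * (e * w)⁻¹ = e * (w * x * w⁻¹) * e⁻¹ by group, h.conj_w hx, h.e_inv,
    mul_inv_rev, mul_inv_rev, h.e_inv, mul_assoc]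

theorem mem_fx' {x : G} : x ∈ fx O (e * w) ↔ x ∈ O ∧ e * x * e = x⁻¹ := by
  rw [h.swap.mem_fx]
  refine and_congr_right fun hx => ?_
  rw [h.conj_ew hx, inv_eq_iff_eq_inv]

theorem fx_disj {x : G} (h1 : x ∈ fx O e) (h2 : x ∈ fx O (e * w)) : x = 1 := by
  have a := (h.mem_fx.1 h1).2
  rw [(h.mem_fx'.1 h2).2] at a
  refine eq_one_of_sq h.odd h1.1 ?_
  nth_rw 1 [← a]
  exact inv_mul_cancel x

theorem split {x : G} (hx : x ∈ O) : ∃ p ∈ fx O e, ∃ q ∈ fx O (e * w), x = p * q := by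
  obtain ⟨y, hy, hyy⟩ := sq_root h.odd hx
  have hey := h.e_mem hy
  have hee : ∀ z : G, e * (e * z * e) * e = z := fun z => by
    rw [show e * (e * z * e) * e = e * e * z * (e * e) by group, h.e2, one_mul, mul_one]
  have hmul : ∀ a b : G, e * (a * b) * e = e * a * e * (e * b * e) := fun a b => by
    calc e * (a * b) * e = e * a * (e * e) * b * e := by rw [h.e2, mul_one]; group
      _ = e * a * e * (e * b * e) := by group
  refine ⟨y * (e * y * e), h.mem_fx.2 ⟨mul_mem hy hey, ?_⟩, y * (e * y * e)⁻¹,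
    h.mem_fx'.2 ⟨mul_mem hy (inv_mem hey), ?_⟩, ?_⟩
  · rw [hmul, hee]
    exact (h.comm hey hy).eq
  · rw [hmul, show e * (e * y * e)⁻¹ * e = (e⁻¹ * (e * y * e) * e⁻¹)⁻¹ by group, h.e_inv, hee,
      mul_inv_rev, inv_inv]
  · calc x = y * y := hyy.symm
      _ = y * (e * y * e) * ((e * y * e)⁻¹ * y) := by group
      _ = _ := by rw [((h.comm hey hy).inv_left).eq]

theorem card_split : Nat.card O = Nat.card (fx O e) * Nat.card (fx O (e * w)) := by
  rw [← Nat.card_prod]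
  symm
  refine Nat.card_eq_of_bijective
    (fun p : fx O e × fx O (e * w) => (⟨p.1 * p.2, mul_mem p.1.2.1 p.2.2.1⟩ : O)) ⟨?_, ?_⟩
  · rintro ⟨a, b⟩ ⟨c, d⟩ hh
    have hh' : (a : G) * b = c * d := congrArg Subtype.val hh
    have h1 : (c : G)⁻¹ * a = d * (b : G)⁻¹ := by
      rw [eq_mul_inv_iff_mul_eq, mul_assoc, hh', inv_mul_cancel_left]
    have h2 := h.fx_disj (mul_mem (inv_mem c.2) a.2) (h1 ▸ mul_mem d.2 (inv_mem b.2))
    refine Prod.ext (Subtype.ext (inv_mul_eq_one.1 h2).symm) (Subtype.ext ?_)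
    rw [h1] at h2
    exact (mul_inv_eq_one.1 h2).symm
  · rintro ⟨x, hx⟩
    obtain ⟨p, hp, q, hq, rfl⟩ := h.split hx
    exact ⟨(⟨p, hp⟩, ⟨q, hq⟩), rfl⟩

theorem card_cent : Nat.card ↥(centralizer ({w ^ 2} : Set G)) = 8 * Nat.card O := by
  have hmem : ∀ (x : G) (i j : ℕ), x ∈ O → x * (w ^ i * e ^ j) ∈ centralizer ({w ^ 2} : Set G) := by
    intro x i j hx
    rw [mem_centralizer_singleton_iff]
    exact ((h.le x hx).mul_left ((h.t_comm_w.symm.pow_left i).mul_left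
      (h.t_comm_e.symm.pow_left j))).eq
  symm
  rw [show (8 : ℕ) = Nat.card (Fin 4 × Fin 2) by simp, mul_comm, ← Nat.card_prod]
  refine Nat.card_eq_of_bijective
    (fun p : O × (Fin 4 × Fin 2) => (⟨p.1 * (w ^ (p.2.1 : ℕ) * e ^ (p.2.2 : ℕ)),
      hmem _ _ _ p.1.2⟩ : ↥(centralizer ({w ^ 2} : Set G)))) ⟨?_, ?_⟩
  · rintro ⟨x, i, j⟩ ⟨x', i', j'⟩ hh
    obtain ⟨a, b, c⟩ := h.decomp_unique x.2 x'.2 i.2 i'.2 j.2 j'.2 (congrArg Subtype.val hh)
    exact Prod.ext (Subtype.ext a) (Prod.ext (Fin.ext b) (Fin.ext c))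
  · rintro ⟨c, hc⟩
    obtain ⟨x, hx, i, hi, j, hj, rfl⟩ := h.decomp c (mem_centralizer_singleton_iff.1 hc)
    exact ⟨(⟨x, hx⟩, ⟨i, hi⟩, ⟨j, hj⟩), rfl⟩

theorem w_fx {x : G} (hx : x ∈ fx O e) : w * x * w⁻¹ ∈ fx O e := by
  rw [h.conj_w hx.1]
  exact inv_mem hx

/-- Elements commuting with the square and with `e`. -/
theorem cent_four {c : G} (hct : Commute c (w ^ 2)) (hce : Commute c e) :
    ∃ x ∈ fx O e, c = x ∨ c = x * w ^ 2 ∨ c = x * e ∨ c = x * (w ^ 2 * e) := by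
  obtain ⟨x, hx, i, hi, j, hj, rfl⟩ := h.decomp c hct
  have key : e * (x * (w ^ i * e ^ j)) * e = e * x * e * (w ^ ((3 * i) % 4) * e ^ j) := by
    have h1 : e * w ^ i * e = w ^ ((3 * i) % 4) := by
      nth_rw 2 [← h.e_inv]
      rw [← conj_pow, h.inv, h.w_inv, ← pow_mul, ← h.ow, pow_mod_orderOf]
    calc e * (x * (w ^ i * e ^ j)) * e
        = (e * x * e) * (e⁻¹ * w ^ i * (e ^ j * e)) := by group
      _ = (e * x * e) * (e * w ^ i * (e * e ^ j)) := by rw [h.e_inv, ← pow_succ, ← pow_succ']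
      _ = e * x * e * (w ^ ((3 * i) % 4) * e ^ j) := by rw [← mul_assoc (e * w ^ i), h1]
  rw [mul_assoc, hce.eq, ← mul_assoc, h.e2, one_mul] at key
  obtain ⟨hx', hi', -⟩ := h.decomp_unique hx (h.e_mem hx) hi (Nat.mod_lt _ (by norm_num)) hj hj key
  refine ⟨x, h.mem_fx.2 ⟨hx, hx'.symm⟩, ?_⟩
  interval_cases i <;> interval_cases j <;> first | omega | simp

/-- The involutions of the centraliser. -/
theorem invol_cases {c : G} (hct : Commute c (w ^ 2)) (hc : orderOf c = 2) :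
    c = w ^ 2 ∨ (∃ x ∈ fx O (e * w), c = x * e ∨ c = x * (w ^ 2 * e)) ∨
      ∃ x ∈ fx O e, c = x * (e * w) ∨ c = x * (w ^ 2 * (e * w)) := by
  obtain ⟨x, hx, i, hi, j, hj, rfl⟩ := h.decomp c hct
  obtain ⟨s, hs⟩ : ∃ s : G, w ^ i * e ^ j = s := ⟨_, rfl⟩
  rw [hs] at hct hc ⊢
  have hcc : x * (s * x * s⁻¹) * (s * s) = 1 := by
    rw [← H65.mul_self_eq_one hc]; group
  have hsO : s * x * s⁻¹ ∈ O := h.norm s (hs ▸ (h.t_comm_w.symm.pow_left i).mul_left
    (h.t_comm_e.symm.pow_left j)) x hx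
  have hss : s * s = 1 := by
    refine h.eq_one_of_mem ?_ (mul_mem (hs ▸ h.rep_mem i j) (hs ▸ h.rep_mem i j))
    rw [eq_inv_of_mul_eq_one_right hcc]
    exact inv_mem (mul_mem hx hsO)
  rw [hss, mul_one] at hcc
  have hsx : s * x * s⁻¹ = x⁻¹ := eq_inv_of_mul_eq_one_right hcc
  have hw2' : ∀ y ∈ O, w ^ 2 * y * (w ^ 2)⁻¹ = y := fun y hy =>
    mul_inv_eq_iff_eq_mul.2 (h.le y hy).symm.eq
  interval_cases j
  · -- powers of `w`
    rw [pow_zero, mul_one] at hs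
    subst hs
    interval_cases i
    · exfalso
      rw [pow_zero] at hsx hc
      simp only [one_mul, inv_one, mul_one] at hsx hc
      refine H65.ne_one_of_orderOf hc (eq_one_of_sq h.odd hx ?_)
      nth_rw 1 [hsx]
      exact inv_mul_cancel x
    · exfalso
      rw [pow_one, ← sq] at hss
      exact h.w2_ne hss
    · left
      rw [hw2' x hx] at hsx
      have : x = 1 := eq_one_of_sq h.odd hx (by nth_rw 1 [hsx]; exact inv_mul_cancel x)
      rw [this, one_mul]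
    · exfalso
      rw [← pow_add, show 3 + 3 = 4 + 2 by norm_num, pow_add, h.w4, one_mul] at hss
      exact h.w2_ne hss
  · rw [pow_one] at hs
    subst hs
    interval_cases i
    · rw [pow_zero, one_mul, h.e_inv] at hsx
      exact Or.inr (Or.inl ⟨x, h.mem_fx'.2 ⟨hx, hsx⟩, Or.inl (by rw [pow_zero, one_mul])⟩)
    · rw [pow_one, show w * e * x * (w * e)⁻¹ = w * (e * x * e⁻¹) * w⁻¹ by group, h.e_inv,
        h.conj_w (h.e_mem hx), inv_inj] at hsx
      refine Or.inr (Or.inr ⟨x, h.mem_fx.2 ⟨hx, hsx⟩, Or.inr ?_⟩)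
      rw [pow_one, h.e_mul_w, ← mul_assoc (w ^ 2), ← pow_add, show 2 + 3 = 4 + 1 by norm_num,
        pow_add, h.w4, one_mul, pow_one]
    · rw [show w ^ 2 * e * x * (w ^ 2 * e)⁻¹ = w ^ 2 * (e * x * e⁻¹) * (w ^ 2)⁻¹ by group,
        h.e_inv, hw2' _ (h.e_mem hx)] at hsx
      exact Or.inr (Or.inl ⟨x, h.mem_fx'.2 ⟨hx, hsx⟩, Or.inr rfl⟩)
    · rw [show w ^ 3 * e * x * (w ^ 3 * e)⁻¹ =
          w ^ 2 * (w * (e * x * e⁻¹) * w⁻¹) * (w ^ 2)⁻¹ by group,
        h.e_inv, h.conj_w (h.e_mem hx), hw2' _ (inv_mem (h.e_mem hx)), inv_inj] at hsx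
      exact Or.inr (Or.inr ⟨x, h.mem_fx.2 ⟨hx, hsx⟩, Or.inl (by rw [h.e_mul_w])⟩)

/-- Conjugates of `x * e` by fixed points of `e * w`. -/
theorem exists_conj_e {x : G} (hx : x ∈ fx O (e * w)) :
    ∃ y ∈ fx O (e * w), y * e * y⁻¹ = x * e ∧ y * (w ^ 2 * e) * y⁻¹ = x * (w ^ 2 * e) := by
  obtain ⟨y, hy, hyy⟩ := sq_root (odd_of_le inf_le_left h.odd) hx
  have h1 : e * y⁻¹ * e = y := by
    have := (h.mem_fx'.1 (inv_mem hy)).2
    rwa [inv_inv] at this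
  have h2 : y * e * y⁻¹ = x * e := by
    calc y * e * y⁻¹ = y * (e * y⁻¹ * e) * e⁻¹ := by group
      _ = x * e := by rw [h1, hyy, h.e_inv]
  refine ⟨y, hy, h2, ?_⟩
  calc y * (w ^ 2 * e) * y⁻¹ = (y * w ^ 2 * y⁻¹) * (y * e * y⁻¹) := by group
    _ = w ^ 2 * x * e := by rw [h2, (h.le y hy.1).eq, mul_inv_cancel_right, mul_assoc]
    _ = x * (w ^ 2 * e) := by rw [← (h.le x hx.1).eq, mul_assoc]

/-- A conjugation moving `e` to `t`, carrying `t` into `S`. -/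
theorem exists_move :
    ∃ g : G, g * e * g⁻¹ = w ^ 2 ∧ (g * w ^ 2 * g⁻¹ = e ∨ g * w ^ 2 * g⁻¹ = w ^ 2 * e ∨
      g * w ^ 2 * g⁻¹ = e * w ∨ g * w ^ 2 * g⁻¹ = w ^ 2 * (e * w)) := by
  obtain ⟨g, hg⟩ := isConj_iff.1 (h.conj e h.oe).symm
  have hne : g * w ^ 2 * g⁻¹ ≠ w ^ 2 := by
    intro he
    have h1 : e = w ^ 2 := mul_left_cancel (mul_right_cancel (hg.trans he.symm))
    exact h.not_comm (h1 ▸ h.t_comm_w)
  have hcom : Commute (g * w ^ 2 * g⁻¹) (w ^ 2) := by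
    have h1 : Commute (g * w ^ 2 * g⁻¹) (g * e * g⁻¹) := by
      show g * w ^ 2 * g⁻¹ * (g * e * g⁻¹) = g * e * g⁻¹ * (g * w ^ 2 * g⁻¹)
      calc g * w ^ 2 * g⁻¹ * (g * e * g⁻¹) = g * (w ^ 2 * e) * g⁻¹ := by group
        _ = g * (e * w ^ 2) * g⁻¹ := by rw [h.t_comm_e.eq]
        _ = _ := by group
    rwa [hg] at h1
  have hfin : ∀ y : G, y ∈ O → ∀ r : G, y * r * y⁻¹ = g * w ^ 2 * g⁻¹ →
      y⁻¹ * g * e * (y⁻¹ * g)⁻¹ = w ^ 2 ∧ y⁻¹ * g * w ^ 2 * (y⁻¹ * g)⁻¹ = r := by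
    intro y hy r hr
    constructor
    · calc y⁻¹ * g * e * (y⁻¹ * g)⁻¹ = y⁻¹ * (g * e * g⁻¹) * y := by group
        _ = w ^ 2 := by rw [hg, mul_assoc, ← (h.le y hy).eq, inv_mul_cancel_left]
    · calc y⁻¹ * g * w ^ 2 * (y⁻¹ * g)⁻¹ = y⁻¹ * (g * w ^ 2 * g⁻¹) * y := by group
        _ = r := by rw [← hr]; group
  rcases h.invol_cases hcom ((H65.orderOf_conj' g _).trans h.ot) with e1 | ⟨x, hx, e1⟩ | ⟨x, hx, e1⟩
  · exact absurd e1 hne
  · obtain ⟨y, hy, a, b⟩ := h.exists_conj_e hx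
    rcases e1 with e1 | e1
    · obtain ⟨p, q⟩ := hfin y hy.1 e (a.trans e1.symm)
      exact ⟨_, p, Or.inl q⟩
    · obtain ⟨p, q⟩ := hfin y hy.1 _ (b.trans e1.symm)
      exact ⟨_, p, Or.inr (Or.inl q)⟩
  · have hx' : x ∈ fx O (e * w * w) := by
      rw [h.swap.mem_fx']
      obtain ⟨hxO, hx2⟩ := h.mem_fx.1 hx
      exact ⟨hxO, by rw [h.conj_ew hxO, hx2]⟩
    obtain ⟨y, hy, a, b⟩ := h.swap.exists_conj_e hx'
    rcases e1 with e1 | e1
    · obtain ⟨p, q⟩ := hfin y hy.1 _ (a.trans e1.symm)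
      exact ⟨_, p, Or.inr (Or.inr (Or.inl q))⟩
    · obtain ⟨p, q⟩ := hfin y hy.1 _ (b.trans e1.symm)
      exact ⟨_, p, Or.inr (Or.inr (Or.inr q))⟩

theorem conj_t {v : G} (g : G) :
    g * (w ^ 2 * v) * g⁻¹ = g * w ^ 2 * g⁻¹ * (g * v * g⁻¹) := by group

/-- An element normalising the four-group `⟨t, e⟩` and moving `t`. -/
theorem exists_normalizing :
    ∃ g : G, (g * w ^ 2 * g⁻¹ = e ∨ g * w ^ 2 * g⁻¹ = w ^ 2 * e) ∧
      (g * e * g⁻¹ = w ^ 2 ∨ g * e * g⁻¹ = e ∨ g * e * g⁻¹ = w ^ 2 * e) := by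
  obtain ⟨g, hge, hgt⟩ := h.exists_move
  rcases hgt with hgt | hgt | hgt
  · exact ⟨g, Or.inl hgt, Or.inl hge⟩
  · exact ⟨g, Or.inr hgt, Or.inl hge⟩
  set u := g * w ^ 2 * g⁻¹ with hu
  -- `g` maps the four-group of `e` to that of `e * w`
  obtain ⟨k, hk, hkt⟩ := h.swap.exists_move
  have hwf : w * (w ^ 2 * (e * w)) * w⁻¹ = e * w := by
    calc w * (w ^ 2 * (e * w)) * w⁻¹ = w ^ 3 * e := by group
      _ = e * w := h.e_mul_w.symm
  have hwf' : w * (e * w) * w⁻¹ = w ^ 2 * (e * w) := by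
    nth_rw 2 [h.e_mul_w]
    calc w * (e * w) * w⁻¹ = w * e := by group
      _ = w ^ 4 * (w * e) := by rw [h.w4, one_mul]
      _ = w ^ 2 * (w ^ 3 * e) := by group
  have hwt : w * w ^ 2 * w⁻¹ = w ^ 2 := by group
  have hs1 : e * w * w = w ^ 2 * e := by rw [h.ew_w, ← h.t_comm_e.eq]
  have hs2 : w ^ 2 * (e * w * w) = e := by rw [hs1, ← mul_assoc, h.t2, one_mul]
  rw [hs2, hs1] at hkt
  have hcomp : ∀ a b v : G, a * b * v * (a * b)⁻¹ = a * (b * v * b⁻¹) * a⁻¹ := fun a b v => by group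
  have hginv : ∀ p q : G, g * p * g⁻¹ = q → g⁻¹ * q * g⁻¹⁻¹ = p := fun p q hpq => by
    rw [← hpq]; group
  rcases hkt with hkt | hkt | hkt | hkt
  rotate_left 2
  · -- `k` maps the four-group of `e * w` to that of `e`
    obtain ⟨m, hm, hmt⟩ : ∃ m : G, m * (w ^ 2 * u) * m⁻¹ = w ^ 2 ∧
        m * w ^ 2 * m⁻¹ = k * w ^ 2 * k⁻¹ := by
      rcases hgt with hgt | hgt
      · exact ⟨k * w, by rw [hgt, hcomp, hwf, hk], by rw [hcomp, hwt]⟩
      · exact ⟨k, by rw [hgt, ← mul_assoc (w ^ 2), h.t2, one_mul, hk], rfl⟩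
    refine ⟨m * g, Or.inl ?_, Or.inr (Or.inr ?_)⟩
    · rw [hcomp, ← hu, show u = w ^ 2 * (w ^ 2 * u) by rw [← mul_assoc, h.t2, one_mul], h.conj_t,
        hm, hmt, hkt, mul_assoc, ← h.t_comm_e.eq, ← mul_assoc, h.t2, one_mul]
    · rw [hcomp, hge, hmt, hkt]
  · obtain ⟨m, hm, hmt⟩ : ∃ m : G, m * (w ^ 2 * u) * m⁻¹ = w ^ 2 ∧
        m * w ^ 2 * m⁻¹ = k * w ^ 2 * k⁻¹ := by
      rcases hgt with hgt | hgt
      · exact ⟨k * w, by rw [hgt, hcomp, hwf, hk], by rw [hcomp, hwt]⟩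
      · exact ⟨k, by rw [hgt, ← mul_assoc (w ^ 2), h.t2, one_mul, hk], rfl⟩
    refine ⟨m * g, Or.inr ?_, Or.inr (Or.inl ?_)⟩
    · rw [hcomp, ← hu, show u = w ^ 2 * (w ^ 2 * u) by rw [← mul_assoc, h.t2, one_mul], h.conj_t,
        hm, hmt, hkt, h.t_comm_e.eq]
    · rw [hcomp, hge, hmt, hkt]
  all_goals
    obtain ⟨m, hm, hmt⟩ : ∃ m : G, m * u * m⁻¹ = w ^ 2 ∧
        m * w ^ 2 * m⁻¹ = k * w ^ 2 * k⁻¹ := by
      rcases hgt with hgt | hgt
      · exact ⟨k, by rw [hgt, hk], rfl⟩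
      · exact ⟨k * w, by rw [hgt, hcomp, hwf, hk], by rw [hcomp, hwt]⟩
    refine ⟨g⁻¹ * m * g, Or.inl ?_, ?_⟩
    · rw [hcomp, hcomp, ← hu, hm, hginv _ _ hge]
    · rw [hcomp, hcomp, hge, hmt, hkt]
      rcases hgt with hgt | hgt
      all_goals first
        | exact Or.inl (by rw [← hgt]; exact hginv _ _ hu.symm)
        | refine Or.inr (Or.inr ?_)
          refine Eq.trans ?_ h.t_comm_e.symm.eq
          first
            | rw [show w ^ 2 * (e * w) = w ^ 2 * u by rw [hgt], h.conj_t, hginv _ _ hge,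
                hginv _ _ hu.symm]
            | rw [show e * w = w ^ 2 * u by rw [hgt, ← mul_assoc, h.t2, one_mul], h.conj_t,
                hginv _ _ hge, hginv _ _ hu.symm]

/-- Elements centralising the fixed points of `e` conjugate `t` to `e` and to `t * e`. -/
theorem exists_fusion :
    ∃ p q : G, (∀ x ∈ fx O e, Commute p x) ∧ (∀ x ∈ fx O e, Commute q x) ∧
      p * w ^ 2 * p⁻¹ = e ∧ q * w ^ 2 * q⁻¹ = w ^ 2 * e := by
  obtain ⟨g, hgt, hge⟩ := h.exists_normalizing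
  have hte : w ^ 2 * e * e = w ^ 2 := by rw [mul_assoc, h.e2, mul_one]
  have hett : w ^ 2 * (w ^ 2 * e) = e := by rw [← mul_assoc, h.t2, one_mul]
  have hgte : g * (w ^ 2 * e) * g⁻¹ = g * w ^ 2 * g⁻¹ * (g * e * g⁻¹) := h.conj_t g
  have hne : g * e * g⁻¹ ≠ g * w ^ 2 * g⁻¹ := by
    intro he
    have h1 : e = w ^ 2 := mul_left_cancel (mul_right_cancel he)
    exact h.not_comm (h1 ▸ h.t_comm_w)
  -- the preimage of `t`
  obtain ⟨r, hr, hrV⟩ : ∃ r : G, g * r * g⁻¹ = w ^ 2 ∧ (r = e ∨ r = w ^ 2 * e) := by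
    rcases hge with h1 | h1 | h1
    · exact ⟨e, h1, Or.inl rfl⟩
    · rcases hgt with h2 | h2
      · exact absurd (h1.trans h2.symm) hne
      · exact ⟨_, by rw [hgte, h1, h2, hte], Or.inr rfl⟩
    · rcases hgt with h2 | h2
      · refine ⟨_, ?_, Or.inr rfl⟩
        rw [hgte, h1, h2, h.t_comm_e.eq, ← mul_assoc, h.e2, one_mul]
      · exact absurd (h1.trans h2.symm) hne
  have hrt : Commute r (w ^ 2) := by
    rcases hrV with rfl | rfl
    · exact h.t_comm_e.symm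
    · exact (Commute.refl _).mul_left h.t_comm_e.symm
  -- `g` and `g⁻¹` carry fixed points to fixed points
  have hcommV : ∀ x ∈ fx O e, ∀ r : G, r = w ^ 2 ∨ r = e ∨ r = w ^ 2 * e → Commute x r := by
    intro x hx r hr
    rcases hr with rfl | rfl | rfl
    · exact h.le x hx.1
    · exact mem_centralizer_singleton_iff.1 hx.2
    · exact (h.le x hx.1).mul_right (mem_centralizer_singleton_iff.1 hx.2)
  have hodd : ∀ x ∈ fx O e, ∀ k : G, Commute (k * x * k⁻¹) (w ^ 2) → Commute (k * x * k⁻¹) e →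
      k * x * k⁻¹ ∈ fx O e := by
    intro x hx k h1 h2
    obtain ⟨y, hy, hy'⟩ := h.cent_four h1 h2
    obtain ⟨n, hn⟩ := h.odd
    have hpow : (k * x * k⁻¹) ^ Nat.card O = 1 := by
      rw [conj_pow, orderOf_dvd_iff_pow_eq_one.1 (O.orderOf_dvd_natCard hx.1), mul_one,
        mul_inv_cancel]
    have key : ∀ v : G, Commute y v → v * v = 1 → k * x * k⁻¹ = y * v → v = 1 := by
      intro v hyv hv hkv
      rw [hkv, hyv.mul_pow, orderOf_dvd_iff_pow_eq_one.1 (O.orderOf_dvd_natCard hy.1), one_mul,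
        hn, pow_succ, pow_mul, sq, hv, one_pow, one_mul] at hpow
      exact hpow
    have hv2 : w ^ 2 * e * (w ^ 2 * e) = 1 := by
      rw [mul_assoc, ← mul_assoc e, ← h.t_comm_e.eq, mul_assoc, h.e2, mul_one, h.t2]
    rcases hy' with e1 | e1 | e1 | e1
    · exact e1 ▸ hy
    · exact absurd (key _ (hcommV y hy _ (Or.inl rfl)) h.t2 e1) h.w2_ne
    · exact absurd (key _ (hcommV y hy _ (Or.inr (Or.inl rfl))) h.e2 e1)
        (H65.ne_one_of_orderOf h.oe)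
    · exfalso
      refine h.not_comm ?_
      have h1 := key _ (hcommV y hy _ (Or.inr (Or.inr rfl))) hv2 e1
      rw [eq_inv_of_mul_eq_one_right h1, h.t_inv]
      exact h.t_comm_w
  have hcj : ∀ k x r : G, Commute x r → Commute (k * x * k⁻¹) (k * r * k⁻¹) := by
    intro k x r hxr
    show k * x * k⁻¹ * (k * r * k⁻¹) = k * r * k⁻¹ * (k * x * k⁻¹)
    calc k * x * k⁻¹ * (k * r * k⁻¹) = k * (x * r) * k⁻¹ := by group
      _ = k * (r * x) * k⁻¹ := by rw [hxr.eq]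
      _ = _ := by group
  have hfwd : ∀ x ∈ fx O e, g * x * g⁻¹ ∈ fx O e := by
    intro x hx
    have h1 : Commute (g * x * g⁻¹) (w ^ 2) :=
      hr ▸ hcj g x r (hcommV x hx r (by tauto))
    refine hodd x hx g h1 ?_
    rcases hgt with h2 | h2
    · exact h2 ▸ hcj g x _ (hcommV x hx _ (Or.inl rfl))
    · have h3 := h1.mul_right (h2 ▸ hcj g x _ (hcommV x hx _ (Or.inl rfl)))
      rwa [hett] at h3
  have hbwd : ∀ x ∈ fx O e, g⁻¹ * x * g ∈ fx O e := by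
    intro x hx
    have hinj : Function.Injective fun x : fx O e => (⟨g * x * g⁻¹, hfwd x x.2⟩ : fx O e) :=
      fun a b hab => Subtype.ext (mul_left_cancel (mul_right_cancel (congrArg Subtype.val hab)))
    obtain ⟨y, hy⟩ := Finite.surjective_of_injective hinj ⟨x, hx⟩
    have hy' : g * (y : G) * g⁻¹ = x := congrArg Subtype.val hy
    rw [← hy']
    simp [mul_assoc]
  -- the commutator with `w`
  set k := g * w * g⁻¹ * w⁻¹ with hk
  have hkx : ∀ x ∈ fx O e, Commute k x := by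
    intro x hx
    refine (mul_inv_eq_iff_eq_mul.1 ?_)
    calc k * x * k⁻¹ = g * (w * (g⁻¹ * (w⁻¹ * x * w) * g) * w⁻¹) * g⁻¹ := by rw [hk]; group
      _ = x := by
        have h1 : w⁻¹ * x * w = x⁻¹ := by
          have := h.conj_w (inv_mem hx.1)
          rw [inv_inv] at this
          calc w⁻¹ * x * w = w⁻¹ * (w * x⁻¹ * w⁻¹) * w := by rw [this]
            _ = x⁻¹ := by group
        rw [h1, h.conj_w (hbwd _ (inv_mem hx)).1]
        group
  have hkt : k * w ^ 2 * k⁻¹ = g * w ^ 2 * g⁻¹ * w ^ 2 := by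
    have hr' : w * r * w⁻¹ = w ^ 2 * r := by
      rcases hrV with rfl | rfl
      · calc w * r * w⁻¹ = w * (r * w⁻¹ * r⁻¹) * r := by group
          _ = w ^ 2 * r := by rw [show r * w⁻¹ * r⁻¹ = (r * w * r⁻¹)⁻¹ by group, h.inv, inv_inv,
              sq]
      · calc w * (w ^ 2 * e) * w⁻¹ = w ^ 3 * (e * w⁻¹ * e⁻¹) * e := by group
          _ = w ^ 2 * (w ^ 2 * e) := by
            rw [show e * w⁻¹ * e⁻¹ = (e * w * e⁻¹)⁻¹ by group, h.inv, inv_inv, ← pow_succ,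
              ← mul_assoc, ← pow_add]
    calc k * w ^ 2 * k⁻¹ = g * (w * (g⁻¹ * (w⁻¹ * w ^ 2 * w) * g) * w⁻¹) * g⁻¹ := by
          rw [hk]; group
      _ = g * (w * r * w⁻¹) * g⁻¹ := by
        rw [show w⁻¹ * w ^ 2 * w = w ^ 2 by group, ← hr]; group
      _ = g * w ^ 2 * g⁻¹ * w ^ 2 := by rw [hr', h.conj_t, hr]
  have hwx : ∀ x ∈ fx O e, Commute (w * k * w⁻¹) x := by
    intro x hx
    have h1 := hcj w k _ (hkx _ (h.w_fx hx))
    rwa [show w * (w * x * w⁻¹) * w⁻¹ = w ^ 2 * x * (w ^ 2)⁻¹ by rw [sq]; group,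
      (h.le x hx.1).symm.eq, mul_inv_cancel_right] at h1
  have hwk : w * k * w⁻¹ * w ^ 2 * (w * k * w⁻¹)⁻¹ = w * (k * w ^ 2 * k⁻¹) * w⁻¹ := by group
  have hwe : w * e * w⁻¹ = w ^ 2 * e := by
    calc w * e * w⁻¹ = w * (e * w⁻¹ * e⁻¹) * e := by group
      _ = w ^ 2 * e := by rw [show e * w⁻¹ * e⁻¹ = (e * w * e⁻¹)⁻¹ by group, h.inv, inv_inv, sq]
  have hwte : w * (w ^ 2 * e) * w⁻¹ = e := by
    rw [h.conj_t, hwe, show w * w ^ 2 * w⁻¹ = w ^ 2 by group, hett]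
  rcases hgt with h2 | h2
  · rw [h2, ← h.t_comm_e.eq] at hkt
    exact ⟨w * k * w⁻¹, k, hwx, hkx, by rw [hwk, hkt, hwte], hkt⟩
  · rw [h2, h.t_comm_e.eq, mul_assoc e, h.t2, mul_one] at hkt
    exact ⟨k, w * k * w⁻¹, hkx, hwx, hkt, by rw [hwk, hkt, hwe]⟩

end

end Setup

end Cfsg.Agent.H83.SmallCent
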