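import Cfsg.Agent.H83.SmallCent.Index
import Cfsg.Agent.H65.DihedralEight

/-!
The order of a simple group with a self-centralising element of order four.
-/

set_option autoImplicit false
set_option linter.unusedSectionVars false
set_option linter.style.haveILetI false

namespace Cfsg.Agent.H83.SmallCent

open Subgroup

universe u

variable {G : Type u} [Group G] [Finite G]

theorem exists_setup (S : Sylow 2 G) {w e : G} (hw : orderOf w = 4) (hwS : w ∈ (S : Subgroup G))
    (heS : e ∈ (S : Subgroup G)) (he : orderOf e = 2) (hinv : e * w * e⁻¹ = w⁻¹)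
    (eS : (S : Subgroup G) ≃* DihedralGroup 4) (hc : ∀ g : G, Commute g w → g ∈ zpowers w)
    (hone : ∀ v : G, orderOf v = 2 → IsConj (w ^ 2) v) :
    ∃ O : Subgroup G, Setup w e O := by
  haveI : Fact (Nat.Prime 2) := ⟨Nat.prime_two⟩
  have ht : orderOf (w ^ 2) = 2 := by rw [orderOf_pow, hw]; norm_num
  have hte : Commute e (w ^ 2) := by
    show e * w ^ 2 = w ^ 2 * e
    rw [← mul_inv_eq_iff_eq_mul, ← conj_pow, hinv, inv_pow, H65.inv_eq_self ht]
  set C := centralizer ({w ^ 2} : Set G) with hC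
  have hwC : w ∈ C := mem_centralizer_singleton_iff.2 (Commute.self_pow w 2).eq
  have heC : e ∈ C := mem_centralizer_singleton_iff.2 hte.eq
  obtain ⟨N, hN, hNodd, k, hk⟩ := S0514.result S 4 (by norm_num) ⟨eS⟩ (w ^ 2) ht
  haveI := hN
  set D := closure ({w, e} : Set G) with hD
  have hDC : D ≤ C := (closure_le _).2 (by
    rintro x (rfl | rfl)
    · exact hwC
    · exact heC)
  have hDS : D ≤ (S : Subgroup G) := (closure_le _).2 (by
    rintro x (rfl | rfl)
    · exact hwS
    · exact heS)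
  have htwo : IsPGroup 2 ↥D := S.isPGroup'.to_le hDS
  have hD8 : 8 ≤ Nat.card ↥D := by
    have hn : ¬ Commute e w := fun hcm => by
      rw [hcm.eq, mul_inv_cancel_right, eq_inv_iff_mul_eq_one, ← sq] at hinv
      exact H65.ne_one_of_orderOf ht hinv
    rw [show (8 : ℕ) = Nat.card (Fin 4 × Fin 2) by simp]
    refine Nat.card_le_card_of_injective (fun p => (⟨w ^ (p.1 : ℕ) * e ^ (p.2 : ℕ),
      mul_mem (pow_mem (subset_closure (by simp)) _) (pow_mem (subset_closure (by simp)) _)⟩ :
        ↥D)) ?_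
    rintro ⟨i, j⟩ ⟨i', j'⟩ hp
    have hp' : w ^ (i : ℕ) * e ^ (j : ℕ) = w ^ (i' : ℕ) * e ^ (j' : ℕ) := congrArg Subtype.val hp
    have hjj : j = j' := by
      by_contra hne
      apply hn
      have : e ∈ zpowers w := by
        have h1 := pow_mem (mem_zpowers w) (i : ℕ)
        have h2 := pow_mem (mem_zpowers w) (i' : ℕ)
        fin_cases j <;> fin_cases j' <;> simp at hp' hne
        · rw [show e = (w ^ (i' : ℕ))⁻¹ * w ^ (i : ℕ) by rw [hp', inv_mul_cancel_left]]
          exact mul_mem (inv_mem h2) h1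
        · rw [show e = (w ^ (i : ℕ))⁻¹ * w ^ (i' : ℕ) by rw [← hp', inv_mul_cancel_left]]
          exact mul_mem (inv_mem h1) h2
      obtain ⟨m, hm⟩ := mem_zpowers_iff.1 this
      rw [← hm]; exact (Commute.refl w).zpow_left m
    subst hjj
    exact Prod.ext (Fin.ext (pow_injOn_Iio_orderOf (by simp [hw, i.2]) (by simp [hw, i'.2])
      (mul_right_cancel hp'))) rfl
  have hnorm : ∀ c : G, Commute c (w ^ 2) → ∀ x ∈ N.map C.subtype, c * x * c⁻¹ ∈ N.map C.subtype := by
    intro c hcc x hx
    obtain ⟨y, hy, rfl⟩ := Subgroup.mem_map.1 hx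
    exact Subgroup.mem_map.2 ⟨⟨c, mem_centralizer_singleton_iff.2 hcc.eq⟩ * y *
      ⟨c, mem_centralizer_singleton_iff.2 hcc.eq⟩⁻¹, hN.conj_mem y hy _, by simp⟩
  -- the quotient by the core is the image of `D`
  have hk8 : (2 : ℕ) ^ k ≤ 8 := by
    have h1 : 2 ^ k ∣ Nat.card G :=
      (hk ▸ N.index_dvd_card).trans C.card_subgroup_dvd_card
    have h2 := (Nat.Prime.pow_dvd_iff_le_factorization Nat.prime_two Nat.card_pos.ne').1 h1
    have h3 : (2 : ℕ) ^ (Nat.card G).factorization 2 = 8 := by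
      rw [← S.card_eq_multiplicity, Nat.card_congr eS.toEquiv, Nat.card_eq_fintype_card,
        DihedralGroup.card]
    calc 2 ^ k ≤ 2 ^ (Nat.card G).factorization 2 := Nat.pow_le_pow_right (by norm_num) h2
      _ = 8 := h3
  have hdisj : ∀ z : ↥C, z ∈ N → (z : G) ∈ D → z = 1 := by
    intro z hz hzD
    obtain ⟨m, hm⟩ := htwo ⟨z, hzD⟩
    have hm' : z ^ 2 ^ m = 1 := Subtype.ext (by
      rw [Subgroup.coe_pow]; exact congrArg Subtype.val hm)
    have h1 : Nat.gcd (2 ^ m) (Nat.card N) = 1 :=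
      Nat.Coprime.pow_left m ((Nat.coprime_two_left).2 hNodd)
    have := pow_gcd_eq_one.2 ⟨hm', orderOf_dvd_iff_pow_eq_one.1 (N.orderOf_dvd_natCard hz)⟩
    rwa [h1, pow_one] at this
  let ψ : ↥D → ↥C ⧸ N := fun d => ((⟨d, hDC d.2⟩ : ↥C) : ↥C ⧸ N)
  have hψinj : Function.Injective ψ := by
    intro a b hab
    have h1 := QuotientGroup.eq.1 hab
    have h2 := hdisj _ h1 (mul_mem (inv_mem a.2) b.2)
    exact Subtype.ext (inv_mul_eq_one.1 (congrArg Subtype.val h2))
  have hψ : Function.Bijective ψ := hψinj.bijective_of_nat_card_le (by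
    rw [← Subgroup.index_eq_card, hk]; exact hk8.trans hD8)
  refine ⟨N.map C.subtype, ⟨hw, he, hinv, hc, hone, ?_, ?_, hnorm, htwo, ?_⟩⟩
  · intro x hx
    exact mem_centralizer_singleton_iff.1 ((Subgroup.map_subtype_le N) hx)
  · rw [Subgroup.card_map_of_injective C.subtype_injective]; exact hNodd
  · intro c hcc
    obtain ⟨d, hd⟩ := hψ.2 ((⟨c, mem_centralizer_singleton_iff.2 hcc.eq⟩ : ↥C) : ↥C ⧸ N)
    have h1 := QuotientGroup.eq.1 hd.symm
    have hx : c * (d : G)⁻¹ ∈ N.map C.subtype := by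
      have h2 := hnorm c hcc _ (inv_mem (Subgroup.mem_map.2 ⟨_, h1, rfl⟩))
      simpa [mul_assoc] using h2
    -- elements of `D` are in normal form
    have hform : ∀ g ∈ D, ∃ i < 4, ∃ j < 2, g = w ^ i * e ^ j := by
      intro g hg
      have hconj : e * w = w ^ 3 * e := by
        rw [← inv_eq_of_mul_eq_one_right (show w * w ^ 3 = 1 by
          rw [← pow_succ', show 3 + 1 = orderOf w by omega, pow_orderOf_eq_one]), ← hinv]; group
      have hee : e * e = 1 := H65.mul_self_eq_one he
      have hpow : ∀ n : ℕ, w ^ (n % 4) = w ^ n := fun n => by rw [← hw, pow_mod_orderOf]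
      have hmove : ∀ i : ℕ, e * w ^ i = w ^ (3 * i) * e := by
        intro i
        induction i with
        | zero => simp
        | succ i ih =>
          rw [pow_succ, ← mul_assoc, ih, mul_assoc, hconj, ← mul_assoc, ← pow_add]
          ring_nf
      induction hg using Subgroup.closure_induction with
      | mem x hx =>
        rcases hx with rfl | rfl
        · exact ⟨1, by norm_num, 0, by norm_num, by simp⟩
        · exact ⟨0, by norm_num, 1, by norm_num, by simp⟩
      | one => exact ⟨0, by norm_num, 0, by norm_num, by simp⟩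
      | mul a b _ _ iha ihb =>
        obtain ⟨i, -, j, hj, rfl⟩ := iha
        obtain ⟨i', -, j', hj', rfl⟩ := ihb
        interval_cases j
        · exact ⟨(i + i') % 4, Nat.mod_lt _ (by norm_num), j', hj',
            by rw [pow_zero, mul_one, hpow, ← mul_assoc, ← pow_add]⟩
        · refine ⟨(i + 3 * i') % 4, Nat.mod_lt _ (by norm_num), (1 + j') % 2,
            Nat.mod_lt _ (by norm_num), ?_⟩
          rw [hpow, pow_one, mul_assoc, ← mul_assoc e, hmove, mul_assoc, ← mul_assoc (w ^ i),
            ← pow_add]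
          interval_cases j' <;> simp [hee]
      | inv a _ iha =>
        obtain ⟨i, -, j, hj, rfl⟩ := iha
        interval_cases j
        · refine ⟨(3 * i) % 4, Nat.mod_lt _ (by norm_num), 0, by norm_num, ?_⟩
          rw [pow_zero, mul_one, mul_one, hpow]
          exact inv_eq_of_mul_eq_one_right (by
            rw [← pow_add, show i + 3 * i = 4 * i by ring, pow_mul, ← hw, pow_orderOf_eq_one,
              one_pow])
        · refine ⟨i % 4, Nat.mod_lt _ (by norm_num), 1, by norm_num, ?_⟩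
          rw [pow_one, hpow]
          refine inv_eq_of_mul_eq_one_right ?_
          rw [mul_assoc, ← mul_assoc e, hmove, mul_assoc, hee, mul_one, ← pow_add,
            show i + 3 * i = 4 * i by ring, pow_mul, ← hw, pow_orderOf_eq_one, one_pow]
    obtain ⟨i, hi, j, hj, hdij⟩ := hform d d.2
    exact ⟨_, hx, i, hi, j, hj, by rw [← hdij]; group⟩

namespace Setup

variable {w e : G} {O : Subgroup G}

section

variable (h : Setup w e O)
include h

/-- The case of a nontrivial `O^e`. -/
theorem card_main [IsSimpleGroup G] (S : Sylow 2 G) (hwS : w ∈ (S : Subgroup G))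
    (heS : e ∈ (S : Subgroup G)) (eS : (S : Subgroup G) ≃* DihedralGroup 4)
    (ha : ∃ x ∈ fx O e, x ≠ 1) : Nat.card G = 2520 := by
  have haodd : Odd (Nat.card (fx O e)) := odd_of_le (inf_le_left : fx O e ≤ O) h.odd
  have ha1 : Nat.card (fx O e) ≠ 1 := by
    intro h1
    obtain ⟨x, hx, hx1⟩ := ha
    haveI := (Nat.card_eq_one_iff_unique.1 h1).1
    exact hx1 (congrArg Subtype.val (Subsingleton.elim (⟨x, hx⟩ : fx O e) 1))
  have ha3 : 3 ≤ Nat.card (fx O e) := by
    have : 0 < Nat.card (fx O e) := Nat.card_pos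
    obtain ⟨k, hk⟩ := haodd
    omega
  obtain ⟨d, hda, hbd, hH, K, hK, -, hKA⟩ := h.outer ha
  rcases Nat.eq_or_lt_of_le (show 1 ≤ Nat.card (fx O (e * w)) from Nat.card_pos) with hb | hb
  · rcases h.card_of_one S hwS heS eS hb.symm ha3 with ⟨hG, -⟩ | ⟨hG, ha5⟩
    · exact hG
    · exfalso
      rw [ha5, ← hb] at hH
      rw [ha5] at hda
      rcases (Nat.dvd_prime (by norm_num)).1 hda with rfl | rfl
      · exact not_7560 hG (fx O e) K ha5 hH (by rw [hK, hH]) hKA
      · have h1 := (centralizer (fx O e : Set G)).card_subgroup_dvd_card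
        rw [hG, hH] at h1
        norm_num at h1
  · exfalso
    have hb' : ∃ x ∈ fx O (e * w), x ≠ 1 := by
      by_contra hno
      push Not at hno
      have : Nat.card (fx O (e * w)) = 1 := by
        rw [Nat.card_eq_one_iff_unique]
        exact ⟨⟨fun p q => Subtype.ext ((hno p p.2).trans (hno q q.2).symm)⟩, ⟨1⟩⟩
      omega
    obtain ⟨d', hdb, had', -⟩ := h.swap.outer hb'
    rw [h.fx_swap] at had'
    have h1 := Nat.le_of_dvd Nat.card_pos hda
    have h2 := Nat.le_of_dvd Nat.card_pos hdb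
    have hab : Nat.card (fx O (e * w)) = Nat.card (fx O e) := by omega
    have hd : d = Nat.card (fx O e) := by omega
    -- the order formula
    obtain ⟨M, hM⟩ := exists_maximal_two
    haveI := Fintype.ofFinite G
    have hS8 : Nat.card ↥(S : Subgroup G) = 8 := by
      rw [Nat.card_congr eS.toEquiv, Nat.card_eq_fintype_card, DihedralGroup.card]
    have hI : IsPrimitiveRoot Complex.I (2 ^ (3 - 1)) := by
      rw [IsPrimitiveRoot.iff_orderOf]
      refine orderOf_eq_prime_pow (p := 2) (n := 1) ?_ ?_ <;> norm_num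
    obtain ⟨-, χ1, χ2, χ3, χ', δ1, δ2, δ3, hδ1, -, -, -, n1, -, -, -, -, -, -, hB, hval, -⟩ :=
      S4481.result M hM 3 le_rfl S ⟨eS⟩ w hwS (by rw [h.ow]; norm_num) Complex.I hI
    obtain ⟨hxne, hord⟩ := S4482.result M hM 3 le_rfl S w e hwS heS (by rw [h.ow]; norm_num) h.oe
      h.inv (h.closure_le_sylow hwS heS hS8)
      ⟨by rw [show (2 : ℕ) ^ (3 - 2) = 2 by norm_num]; exact h.conj e h.oe,
        by rw [show (2 : ℕ) ^ (3 - 2) = 2 by norm_num]; exact h.conj _ h.w_e_order⟩
      χ1 (by rw [hB]; exact Or.inr (Or.inl rfl)) n1 δ1 hδ1 (fun l h1 h2 => (hval l h1 h2).1)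
    rw [show (2 : ℕ) ^ (3 - 2) = 2 by norm_num, h.card_cent, h.card_cent_pair, h.card_cent_pair',
      h.card_split, hab] at hord
    have hx0 : 0 < Cfsg.charDegree (χ1 : G → ℂ) := by
      obtain ⟨m, hm0, hm⟩ := CharBasic.IsIrr.exists_degree χ1.2
      simp [Cfsg.charDegree, hm, hm0]
    generalize Cfsg.charDegree (χ1 : G → ℂ) = x at *
    rw [hd, hab] at hH
    rw [hH] at hK
    have hfix := K.card_mul_index
    rw [hK] at hfix
    -- the index of `K`
    have hodd : K.index % 2 = 1 := by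
      by_contra hne
      haveI : Fact (Nat.Prime 2) := ⟨Nat.prime_two⟩
      have h8 : 2 ^ 4 ∣ Nat.card G := by
        obtain ⟨m, hm⟩ : 2 ∣ K.index := by omega
        rw [← hfix, hm]
        exact ⟨3 * Nat.card (fx O e) ^ 4 * m, by ring⟩
      have h2 := (Nat.Prime.pow_dvd_iff_le_factorization Nat.prime_two Nat.card_pos.ne').1 h8
      have h3 : (2 : ℕ) ^ (Nat.card G).factorization 2 = 8 := by
        rw [← S.card_eq_multiplicity]; exact hS8
      have h4 := Nat.pow_le_pow_right (show 0 < 2 by norm_num) h2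
      omega
    generalize hn : K.index = n at *
    generalize hg : Nat.card G = g at *
    generalize hga : Nat.card (fx O e) = a at *
    have hgn : g = 24 * a ^ 4 * n := by rw [← hfix]; ring
    have hkey : 3 * (n : ℤ) * ((x : ℤ) - δ1) ^ 2 = 32 * x * (x + δ1) := by
      have : ((3 * (n : ℤ) * ((x : ℤ) - δ1) ^ 2 : ℤ) : ℚ) = ((32 * x * (x + δ1) : ℤ) : ℚ) := by
        subst hgn
        have ha0 : (a : ℚ) ≠ 0 := by exact_mod_cast (by omega : a ≠ 0)
        push_cast at hord ⊢
        field_simp at hord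
        linear_combination hord / 128
      exact_mod_cast this
    rcases index_cases hδ1 hodd hx0 hxne hkey with e15 | e7
    · exact both_nontrivial ha3 (Nat.odd_iff.1 haodd) (fx O e) K hga hKA (by rw [hK]; ring)
        (by rw [hg, hgn]) (Or.inl e15)
    · exact both_nontrivial ha3 (Nat.odd_iff.1 haodd) (fx O e) K hga hKA (by rw [hK]; ring)
        (by rw [hg, hgn]) (Or.inr e7)

theorem card_cases [IsSimpleGroup G] (S : Sylow 2 G) (hwS : w ∈ (S : Subgroup G))
    (heS : e ∈ (S : Subgroup G)) (eS : (S : Subgroup G) ≃* DihedralGroup 4) :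
    Nat.card G = 168 ∨ Nat.card G = 360 ∨ Nat.card G = 2520 := by
  by_cases ha : ∃ x ∈ fx O e, x ≠ 1
  · exact Or.inr (Or.inr (h.card_main S hwS heS eS ha))
  by_cases hb : ∃ x ∈ fx O (e * w), x ≠ 1
  · exact Or.inr (Or.inr (h.swap.card_main S hwS (mul_mem heS hwS) eS hb))
  push Not at ha hb
  have hO : Nat.card O = 1 := by
    rw [Nat.card_eq_one_iff_unique]
    refine ⟨⟨fun p q => Subtype.ext ?_⟩, ⟨1⟩⟩
    obtain ⟨p1, hp1, p2, hp2, hp⟩ := h.split p.2
    obtain ⟨q1, hq1, q2, hq2, hq⟩ := h.split q.2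
    rw [hp, hq, ha p1 hp1, hb p2 hp2, ha q1 hq1, hb q2 hq2]
  have hC : centralizer ({w ^ 2} : Set G) = (S : Subgroup G) := by
    have hle : closure ({w, e} : Set G) ≤ centralizer ({w ^ 2} : Set G) := (closure_le _).2 (by
      rintro x (rfl | rfl)
      · exact mem_centralizer_singleton_iff.2 h.t_comm_w.symm.eq
      · exact mem_centralizer_singleton_iff.2 h.t_comm_e.symm.eq)
    have hS8 : Nat.card ↥(S : Subgroup G) = 8 := by
      rw [Nat.card_congr eS.toEquiv, Nat.card_eq_fintype_card, DihedralGroup.card]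
    rw [h.closure_le_sylow hwS heS hS8] at hle
    exact (Subgroup.eq_of_le_of_card_ge hle (by rw [h.card_cent, hO, hS8])).symm
  haveI := Fintype.ofFinite G
  rcases H65.DihedralEight.card_eq (w ^ 2) ((MulEquiv.subgroupCongr hC).trans eS) h.ot h.conj with
    h1 | h1
  · exact Or.inl h1
  · exact Or.inr (Or.inl h1)

end

end Setup

end Cfsg.Agent.H83.SmallCent
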