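import Cfsg.Agent.S0213
import Cfsg.Agent.H83.SmallCent.Local
import Cfsg.Agent.H83.SmallCent.Column

/-!
The centraliser `H` of `O^e` extended by `e * w`: Thompson's order formula and the inequality
`|O^{ew}| ≤ d` with `d` a divisor of `|O^e|`.
-/

set_option autoImplicit false
set_option linter.unusedSectionVars false
set_option linter.style.haveILetI false
set_option linter.unusedSimpArgs false

namespace Cfsg.Agent.H83.SmallCent

open Subgroup

universe u

variable {G : Type u} [Group G] [Finite G]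

theorem mem_centralizer_sub {A : Subgroup G} {k : G} :
    k ∈ centralizer (A : Set G) ↔ ∀ x ∈ A, Commute k x :=
  ⟨fun h x hx => (mem_centralizer_iff.1 h x hx).symm,
    fun h => mem_centralizer_iff.2 fun x hx => (h x hx).symm.eq⟩

theorem isConj_sub {K : Subgroup G} {a b : ↥K} :
    IsConj a b ↔ ∃ k ∈ K, k * (a : G) * k⁻¹ = b := by
  rw [isConj_iff]
  constructor
  · rintro ⟨k, hk⟩
    exact ⟨k, k.2, congrArg Subtype.val hk⟩
  · rintro ⟨k, hk, hk'⟩
    exact ⟨⟨k, hk⟩, Subtype.ext hk'⟩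

theorem zpowers_sub {K : Subgroup G} {a b : ↥K} :
    a ∈ zpowers b ↔ (a : G) ∈ zpowers (b : G) := by
  simp only [mem_zpowers_iff, Subtype.ext_iff, Subgroup.coe_zpow]

theorem card_cent_sub {K : Subgroup G} (a : ↥K) :
    Nat.card ↥(centralizer ({a} : Set ↥K)) = Nat.card {k : G // k ∈ K ∧ Commute k a} := by
  refine Nat.card_congr
    ⟨fun k => ⟨(k : ↥K), (k : ↥K).2, congrArg Subtype.val (mem_centralizer_singleton_iff.1 k.2)⟩,
      fun k => ⟨⟨k.1, k.2.1⟩, mem_centralizer_singleton_iff.2 (Subtype.ext k.2.2.eq)⟩,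
      fun k => rfl, fun k => rfl⟩

theorem pow_two_cases {t : G} (i : Fin 2) : t ^ (i : ℕ) = 1 ∨ t ^ (i : ℕ) = t := by
  fin_cases i <;> simp

namespace Setup

variable {w e : G} {O : Subgroup G}

section

variable (h : Setup w e O)
include h

/-- Odd elements commuting with both involutions. -/
theorem odd_mem_fx {z : G} (hzt : Commute z (w ^ 2)) (hze : Commute z e) (n : ℕ) (hn : Odd n)
    (hz : z ^ n = 1) : z ∈ fx O e := by
  obtain ⟨y, hy, hy'⟩ := h.cent_four hzt hze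
  have key : ∀ v : G, Commute y v → v * v = 1 → z = y * v → v = 1 := by
    intro v hyv hv hkv
    have hpow : z ^ (n * Nat.card O) = 1 := by rw [pow_mul, hz, one_pow]
    have hy1 : y ^ (n * Nat.card O) = 1 := by
      rw [mul_comm, pow_mul, orderOf_dvd_iff_pow_eq_one.1 (O.orderOf_dvd_natCard hy.1), one_pow]
    obtain ⟨m, hm⟩ := hn.mul h.odd
    rw [hkv, hyv.mul_pow, hy1, one_mul, hm, pow_succ, pow_mul, sq, hv, one_pow, one_mul] at hpow
    exact hpow
  have hyt : Commute y (w ^ 2) := h.le y hy.1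
  have hye : Commute y e := mem_centralizer_singleton_iff.1 hy.2
  rcases hy' with e1 | e1 | e1 | e1
  · exact e1 ▸ hy
  · exact absurd (key _ hyt h.t2 e1) h.w2_ne
  · exact absurd (key _ hye h.e2 e1) (H65.ne_one_of_orderOf h.oe)
  · exfalso
    refine h.not_comm ?_
    have h1 := key _ (hyt.mul_right hye)
      (by rw [mul_assoc, ← mul_assoc e, ← h.t_comm_e.eq, mul_assoc, h.e2, mul_one, h.t2]) e1
    rw [eq_inv_of_mul_eq_one_right h1, h.t_inv]
    exact h.t_comm_w

theorem pow_card {x : G} (hx : x ∈ O) : x ^ Nat.card O = 1 :=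
  orderOf_dvd_iff_pow_eq_one.1 (O.orderOf_dvd_natCard hx)

theorem t_notMem : w ^ 2 ∉ O := fun hc =>
  h.w2_ne (eq_one_of_sq h.odd hc h.t2)

theorem invol_notMem {v : G} (hv : orderOf v = 2) : v ∉ O := fun hc =>
  H65.ne_one_of_orderOf hv (eq_one_of_sq h.odd hc (H65.mul_self_eq_one hv))

set_option maxHeartbeats 1200000 in
/-- The main statement about the centraliser of the fixed points of `e`. -/
theorem outer (ha : ∃ x ∈ fx O e, x ≠ 1) :
    ∃ d : ℕ, d ∣ Nat.card (fx O e) ∧ Nat.card (fx O (e * w)) ≤ d ∧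
      Nat.card ↥(centralizer (fx O e : Set G)) =
        4 * Nat.card (fx O e) * Nat.card (fx O (e * w)) * d *
          (2 * Nat.card (fx O (e * w)) + d) ∧
      ∃ K : Subgroup G, Nat.card K = 2 * Nat.card ↥(centralizer (fx O e : Set G)) ∧
        fx O e ≤ K ∧ ∀ k ∈ K, ∀ x ∈ fx O e, k * x * k⁻¹ ∈ fx O e := by
  classical
  set f := e * w with hfdef
  set H := centralizer (fx O e : Set G) with hHdef
  have hOH : ∀ x ∈ O, x ∈ H := fun x hx => mem_centralizer_sub.2 fun y hy => h.comm hx hy.1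
  have htH : w ^ 2 ∈ H := mem_centralizer_sub.2 fun y hy => (h.le y hy.1).symm
  have heH : e ∈ H :=
    mem_centralizer_sub.2 fun y hy => (show Commute y e from mem_centralizer_singleton_iff.1 hy.2).symm
  have hff : f * f = 1 := H65.mul_self_eq_one h.oew
  have hfinv : f⁻¹ = f := H65.inv_eq_self h.oew
  have hfx : ∀ x ∈ fx O e, f * x * f = x⁻¹ := fun x hx => by
    rw [hfdef, h.conj_ew hx.1, (h.mem_fx.1 hx).2]
  have hfH : f ∉ H := by
    intro hc
    obtain ⟨x, hx, hx1⟩ := ha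
    refine hx1 (eq_one_of_sq h.odd hx.1 ?_)
    have h1 := hfx x hx
    rw [(mem_centralizer_sub.1 hc x hx).eq, mul_assoc, hff, mul_one] at h1
    nth_rw 1 [h1]
    exact inv_mul_cancel x
  have hconjH : ∀ k ∈ H, f * k * f ∈ H := by
    intro k hk
    refine mem_centralizer_sub.2 fun x hx => ?_
    have h1 : k * x⁻¹ = x⁻¹ * k := (mem_centralizer_sub.1 hk _ (inv_mem hx)).eq
    have h2 : x = f * x⁻¹ * f := by rw [hfx _ (inv_mem hx), inv_inv]
    show f * k * f * x = x * (f * k * f)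
    nth_rw 1 [h2]
    nth_rw 2 [h2]
    calc f * k * f * (f * x⁻¹ * f) = f * (k * x⁻¹) * f := by
          rw [show f * k * f * (f * x⁻¹ * f) = f * k * (f * f) * x⁻¹ * f by group, hff, mul_one,
            mul_assoc f k]
      _ = f * x⁻¹ * (k * f) := by rw [h1]; group
      _ = f * x⁻¹ * f * (f * k * f) := by
          rw [show f * x⁻¹ * f * (f * k * f) = f * x⁻¹ * (f * f) * k * f by group, hff, mul_one,
            mul_assoc (f * x⁻¹)]
  let K : Subgroup G :=
    { carrier := {k | k ∈ H ∨ k * f ∈ H}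
      one_mem' := Or.inl H.one_mem
      mul_mem' := by
        rintro a b (ha' | ha') (hb | hb)
        · exact Or.inl (mul_mem ha' hb)
        · exact Or.inr (by rw [mul_assoc]; exact mul_mem ha' hb)
        · refine Or.inr ?_
          rw [show a * b * f = (a * f) * (f * b * f) by
            rw [show (a * f) * (f * b * f) = a * (f * f) * (b * f) by group, hff, mul_one,
              mul_assoc]]
          exact mul_mem ha' (hconjH b hb)
        · refine Or.inl ?_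
          rw [show a * b = (a * f) * (f * (b * f) * f) by
            rw [show (a * f) * (f * (b * f) * f) = a * (f * f) * b * (f * f) by group, hff,
              mul_one, mul_one]]
          exact mul_mem ha' (hconjH _ hb)
      inv_mem' := by
        rintro a (ha' | ha')
        · exact Or.inl (inv_mem ha')
        · refine Or.inr ?_
          have h1 := hconjH _ (inv_mem ha')
          rwa [show f * (a * f)⁻¹ * f = (f * f⁻¹) * a⁻¹ * f by group, mul_inv_cancel, one_mul] at h1 }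
  have hHK : ∀ k ∈ H, k ∈ K := fun k hk => Or.inl hk
  have hfK : f ∈ K := Or.inr (by rw [hff]; exact H.one_mem)
  have hwK : w ∈ K := by
    refine Or.inr ?_
    rw [hfdef, h.e_mul_w, ← mul_assoc, ← pow_succ', h.w4, one_mul]
    exact heH
  have hwH : w ∉ H := fun hc => hfH (mul_mem heH hc)
  have hKnorm : ∀ k ∈ K, ∀ x ∈ fx O e, k * x * k⁻¹ ∈ fx O e := by
    rintro k (hk | hk) x hx
    · rw [(mem_centralizer_sub.1 hk x hx).eq, mul_inv_cancel_right]; exact hx
    · have h1 : k * f * x⁻¹ = x⁻¹ * (k * f) := (mem_centralizer_sub.1 hk _ (inv_mem hx)).eq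
      rw [show x = f * x⁻¹ * f by rw [hfx _ (inv_mem hx), inv_inv],
        show k * (f * x⁻¹ * f) * k⁻¹ = k * f * x⁻¹ * (f * k⁻¹) by group, h1,
        show x⁻¹ * (k * f) * (f * k⁻¹) = x⁻¹ * (k * (f * f) * k⁻¹) by group, hff, mul_one,
        mul_inv_cancel, mul_one]
      exact inv_mem hx
  have hHnorm : ∀ k ∈ K, ∀ v ∈ H, k * v * k⁻¹ ∈ H := by
    rintro k (hk | hk) v hv
    · exact mul_mem (mul_mem hk hv) (inv_mem hk)
    · rw [show k * v * k⁻¹ = (k * f) * (f⁻¹ * v * f⁻¹⁻¹) * (k * f)⁻¹ by group, hfinv, hfinv]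
      exact mul_mem (mul_mem hk (hconjH v hv)) (inv_mem hk)
  have hOK : ∀ x ∈ O, x ∈ K := fun x hx => hHK x (hOH x hx)
  have htK : w ^ 2 ∈ K := hHK _ htH
  have heK : e ∈ K := hHK _ heH
  -- conjugation in `K`
  let CK : G → G → Prop := fun a b => ∃ k ∈ K, k * a * k⁻¹ = b
  have CK_symm : ∀ {a b : G}, CK a b → CK b a := by
    rintro a b ⟨k, hk, rfl⟩
    exact ⟨k⁻¹, inv_mem hk, by group⟩
  have CK_trans : ∀ {a b c : G}, CK a b → CK b c → CK a c := by
    rintro a b c ⟨k, hk, rfl⟩ ⟨l, hl, rfl⟩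
    exact ⟨l * k, mul_mem hl hk, by group⟩
  have CK_order : ∀ {a b : G}, CK a b → orderOf b = orderOf a := by
    rintro a b ⟨k, -, rfl⟩
    exact H65.orderOf_conj' k a
  have CK_mem : ∀ {a b : G}, CK a b → a ∈ H → b ∈ H := by
    rintro a b ⟨k, hk, rfl⟩ ha'
    exact hHnorm k hk a ha'
  have CK_notMem : ∀ {a b : G}, CK a b → a ∉ H → b ∉ H := fun hab ha' hb =>
    ha' (CK_mem (CK_symm hab) hb)
  have hte_K : CK (w ^ 2) e ∧ CK (w ^ 2) (w ^ 2 * e) := by
    obtain ⟨p, q, hp, hq, hpe, hqe⟩ := h.exists_fusion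
    exact ⟨⟨p, hHK _ (mem_centralizer_sub.2 hp), hpe⟩, ⟨q, hHK _ (mem_centralizer_sub.2 hq), hqe⟩⟩
  have htf : CK f (w ^ 2 * f) := ⟨w, hwK, by
    rw [hfdef]
    nth_rw 2 [h.e_mul_w]
    calc w * (e * w) * w⁻¹ = w * e := by group
      _ = w ^ 4 * (w * e) := by rw [h.w4, one_mul]
      _ = w ^ 2 * (w ^ 3 * e) := by group⟩
  have hinvt : ∀ v : G, Commute v (w ^ 2) → orderOf v = 2 → CK (w ^ 2) v ∨ CK f v := by
    intro v hvt hv
    rcases h.invol_cases hvt hv with rfl | ⟨x, hx, e1⟩ | ⟨x, hx, e1⟩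
    · exact Or.inl ⟨1, K.one_mem, by group⟩
    · obtain ⟨y, hy, a1, a2⟩ := h.exists_conj_e hx
      rcases e1 with rfl | rfl
      · exact Or.inl (CK_trans hte_K.1 ⟨y, hOK y hy.1, a1⟩)
      · exact Or.inl (CK_trans hte_K.2 ⟨y, hOK y hy.1, a2⟩)
    · have hx' : x ∈ fx O (e * w * w) := by
        rw [h.swap.mem_fx']
        exact ⟨hx.1, hfx x hx⟩
      obtain ⟨y, hy, a1, a2⟩ := h.swap.exists_conj_e hx'
      rcases e1 with rfl | rfl
      · exact Or.inr ⟨y, hOK y hy.1, a1⟩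
      · exact Or.inr (CK_trans htf ⟨y, hOK y hy.1, a2⟩)
  -- transport from `f` to `t`
  obtain ⟨g, hgf, hgt⟩ := h.swap.exists_move
  rw [← hfdef] at hgf
  set u := g * w ^ 2 * g⁻¹ with hudef
  have hu : Setup w u O := by
    have h2 : Setup w (w ^ 2 * e) O := by
      have := h.swap.swap
      rwa [h.ew_w, ← h.t_comm_e.eq] at this
    rcases hgt with e1 | e1 | e1 | e1
    · exact e1 ▸ h.swap
    · rw [e1, ← mul_assoc]
      exact h2.swap
    · rw [e1, h.ew_w, ← h.t_comm_e.eq]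
      exact h2
    · rw [e1, h.ew_w, ← h.t_comm_e.eq, ← mul_assoc, h.t2, one_mul]
      exact h
  set Of := O.comap (MulAut.conj g).toMonoidHom with hOfdef
  have hOf : ∀ z : G, z ∈ Of ↔ g * z * g⁻¹ ∈ O := fun z => Iff.rfl
  have hOf_f : ∀ z ∈ Of, Commute z f := by
    intro z hz
    have h1 : g * z * g⁻¹ * (g * f * g⁻¹) = g * f * g⁻¹ * (g * z * g⁻¹) := by
      rw [hgf]; exact (h.le _ ((hOf z).1 hz)).eq
    rw [show g * z * g⁻¹ * (g * f * g⁻¹) = g * (z * f) * g⁻¹ by group,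
      show g * f * g⁻¹ * (g * z * g⁻¹) = g * (f * z) * g⁻¹ by group] at h1
    exact mul_left_cancel (mul_right_cancel h1)
  have hOf_pow : ∀ z ∈ Of, z ^ Nat.card O = 1 := by
    intro z hz
    have h1 := h.pow_card ((hOf z).1 hz)
    rw [conj_pow] at h1
    simpa using h1
  have hfz : ∀ z ∈ Of, (f * z) ^ Nat.card O = f := by
    intro z hz
    obtain ⟨n, hn⟩ := h.odd
    rw [(hOf_f z hz).symm.mul_pow, hOf_pow z hz, mul_one, hn, pow_succ, pow_mul, sq, hff, one_pow,
      one_mul]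
  have hfzH : ∀ z ∈ Of, f * z ∉ H := fun z hz hc => hfH (hfz z hz ▸ pow_mem hc _)
  have hft : Commute f (w ^ 2) := h.t_comm_ew.symm
  have htOf : w ^ 2 ∉ Of := fun hc => by
    rw [hOf] at hc
    exact h.invol_notMem ((H65.orderOf_conj' g _).trans h.ot) hc
  set R := H ⊓ Of with hRdef
  have hRt : ∀ r ∈ Of, w ^ 2 * r * w ^ 2 ∈ Of := by
    intro r hr
    rw [hOf]
    have h1 := hu.e_mem ((hOf r).1 hr)
    rw [hudef] at h1
    rwa [show g * w ^ 2 * g⁻¹ * (g * r * g⁻¹) * (g * w ^ 2 * g⁻¹) =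
      g * (w ^ 2 * r * w ^ 2) * g⁻¹ by group] at h1
  -- elements of `H` commuting with `f`
  have hCHf : ∀ k ∈ H, Commute k f → ∃ r ∈ R, k = r ∨ k = r * w ^ 2 := by
    intro k hk hkf
    have hc : Commute (g * k * g⁻¹) (w ^ 2) := by
      show g * k * g⁻¹ * w ^ 2 = w ^ 2 * (g * k * g⁻¹)
      rw [← hgf]
      calc g * k * g⁻¹ * (g * f * g⁻¹) = g * (k * f) * g⁻¹ := by group
        _ = g * (f * k) * g⁻¹ := by rw [hkf.eq]
        _ = _ := by group
    obtain ⟨x, hx, i, hi, j, hj, hdec⟩ := hu.decomp _ hc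
    set r := g⁻¹ * x * g with hrdef
    set W := g⁻¹ * w * g with hWdef
    have hr : r ∈ Of := by
      rw [hOf, hrdef, show g * (g⁻¹ * x * g) * g⁻¹ = x by group]; exact hx
    have hWf : W * W = f := by
      rw [hWdef, show g⁻¹ * w * g * (g⁻¹ * w * g) = g⁻¹ * (w * w) * g by group, ← sq, ← hgf]
      group
    have hk' : k = r * (W ^ i * (w ^ 2) ^ j) := by
      have h1 : W ^ i = g⁻¹ * w ^ i * g := by
        have h0 := conj_pow (i := i) (a := g⁻¹) (b := w)
        rw [inv_inv] at h0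
        rw [hWdef, h0]
      have h2 : (w ^ 2) ^ j = g⁻¹ * u ^ j * g := by
        rw [hudef, conj_pow]; group
      calc k = g⁻¹ * (g * k * g⁻¹) * g := by group
        _ = r * (W ^ i * (w ^ 2) ^ j) := by rw [hdec, hrdef, h1, h2]; group
    have htj : (w ^ 2) ^ j ∈ H := pow_mem htH j
    have hrW : r * W ^ i ∈ H := by
      have := mul_mem hk (inv_mem htj)
      rwa [hk', ← mul_assoc, mul_inv_cancel_right] at this
    interval_cases i
    · rw [pow_zero, mul_one] at hrW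
      refine ⟨r, ⟨hrW, hr⟩, ?_⟩
      interval_cases j
      · left; rw [hk']; simp
      · right; rw [hk']; simp
    rotate_left
    · exfalso
      rw [sq W, hWf, (hOf_f r hr).eq] at hrW
      exact hfzH r hr hrW
    all_goals
      exfalso
      have hWt : W * w ^ 2 * W⁻¹ = f * w ^ 2 := by
        rw [← hWf]
        have h1 : w ^ 2 * W * (w ^ 2)⁻¹ = W⁻¹ := by
          have h2 := hu.inv
          rw [hudef] at h2
          rw [hWdef, show (g⁻¹ * w * g)⁻¹ = g⁻¹ * w⁻¹ * g by group, ← h2]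
          group
        calc W * w ^ 2 * W⁻¹ = W * (w ^ 2 * W⁻¹ * (w ^ 2)⁻¹) * w ^ 2 := by group
          _ = W * W * w ^ 2 := by
            rw [show w ^ 2 * W⁻¹ * (w ^ 2)⁻¹ = (w ^ 2 * W * (w ^ 2)⁻¹)⁻¹ by group, h1, inv_inv]
    · have h1 := mul_mem (mul_mem (mul_mem hrW htH) (inv_mem hrW)) htH
      have hW2t : W ^ 2 * w ^ 2 * (W ^ 2)⁻¹ = w ^ 2 := by
        rw [sq W, hWf]; rw [hft.eq, mul_inv_cancel_right]
      rw [show r * W ^ 3 * w ^ 2 * (r * W ^ 3)⁻¹ =
          r * (W * (W ^ 2 * w ^ 2 * (W ^ 2)⁻¹) * W⁻¹) * r⁻¹ by group, hW2t, hWt,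
        show r * (f * w ^ 2) * r⁻¹ * w ^ 2 = (r * f) * (w ^ 2 * r⁻¹ * w ^ 2) by group,
        (hOf_f r hr).eq, mul_assoc f] at h1
      exact hfzH _ (mul_mem hr (hRt _ (inv_mem hr))) h1
    · have h1 := mul_mem (mul_mem (mul_mem hrW htH) (inv_mem hrW)) htH
      rw [pow_one, show r * W * w ^ 2 * (r * W)⁻¹ = r * (W * w ^ 2 * W⁻¹) * r⁻¹ by group, hWt,
        show r * (f * w ^ 2) * r⁻¹ * w ^ 2 = (r * f) * (w ^ 2 * r⁻¹ * w ^ 2) by group,
        (hOf_f r hr).eq, mul_assoc f] at h1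
      exact hfzH _ (mul_mem hr (hRt _ (inv_mem hr))) h1
  have hCKf : ∀ k ∈ K, Commute k f → ∃ r ∈ R, ∃ i : Fin 2, ∃ j : Fin 2,
      k = f ^ (i : ℕ) * (r * (w ^ 2) ^ (j : ℕ)) := by
    rintro k (hk | hk) hkf
    · obtain ⟨r, hr, rfl | rfl⟩ := hCHf k hk hkf
      · exact ⟨_, hr, 0, 0, by simp⟩
      · exact ⟨_, hr, 0, 1, by simp⟩
    · obtain ⟨r, hr, e1 | e1⟩ := hCHf _ hk (hkf.mul_left (Commute.refl f))
      · refine ⟨r, hr, 1, 0, ?_⟩
        rw [← e1, hkf.eq]
        simp only [Fin.val_one, pow_one, Fin.val_zero, pow_zero, mul_one]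
        rw [← mul_assoc, hff, one_mul]
      · refine ⟨r, hr, 1, 1, ?_⟩
        simp only [Fin.val_one, pow_one]
        rw [← e1, hkf.eq, ← mul_assoc, hff, one_mul]
  set T := R ⊓ (fx O (u * w)).comap (MulAut.conj g).toMonoidHom with hTdef
  have hT : ∀ r, r ∈ T ↔ r ∈ R ∧ w ^ 2 * r * w ^ 2 = r⁻¹ := by
    intro r
    rw [hTdef, Subgroup.mem_inf, Subgroup.mem_comap]
    refine and_congr_right fun hr => ?_
    show g * r * g⁻¹ ∈ fx O (u * w) ↔ _
    rw [hu.mem_fx', hudef,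
      show g * w ^ 2 * g⁻¹ * (g * r * g⁻¹) * (g * w ^ 2 * g⁻¹) =
        g * (w ^ 2 * r * w ^ 2) * g⁻¹ by group, show (g * r * g⁻¹)⁻¹ = g * r⁻¹ * g⁻¹ by group]
    exact ⟨fun e1 => mul_left_cancel (mul_right_cancel e1.2), fun e1 => ⟨hr.2, by rw [e1]⟩⟩
  have hbu : ∀ q : G, q ∈ fx O f ↔ g * q * g⁻¹ ∈ fx O u := by
    intro q
    constructor
    · intro hq
      refine hu.odd_mem_fx ?_ ?_ (Nat.card O) h.odd (by rw [conj_pow, h.pow_card hq.1]; group)
      · rw [← hgf]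
        exact (show Commute q f from mem_centralizer_singleton_iff.1 hq.2).map (MulAut.conj g)
      · rw [hudef]
        exact (h.le q hq.1).map (MulAut.conj g)
    · intro hq
      refine h.swap.odd_mem_fx ?_ ?_ (Nat.card O) h.odd ?_
      · have h1 : Commute (g * q * g⁻¹) u := mem_centralizer_singleton_iff.1 hq.2
        have h2 := h1.map (MulAut.conj g⁻¹)
        simpa [hudef, mul_assoc] using h2
      · have h1 : Commute (g * q * g⁻¹) (g * f * g⁻¹) := by rw [hgf]; exact h.le _ hq.1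
        have h2 := h1.map (MulAut.conj g⁻¹)
        simpa [mul_assoc] using h2
      · have h1 := h.pow_card hq.1
        rw [conj_pow] at h1
        simpa using h1
  have hbR : ∀ q ∈ fx O f, q ∈ R := fun q hq => ⟨hOH q hq.1, (hOf q).2 ((hbu q).1 hq).1⟩
  have hcardfu : Nat.card (fx O f) = Nat.card (fx O u) := by
    refine Nat.card_congr ⟨fun q => ⟨g * q * g⁻¹, (hbu _).1 q.2⟩,
      fun q => ⟨g⁻¹ * q * g, (hbu _).2 ?_⟩, fun q => Subtype.ext (by simp [mul_assoc]),
      fun q => Subtype.ext (by simp [mul_assoc])⟩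
    rw [show g * (g⁻¹ * (q : G) * g) * g⁻¹ = q by group]
    exact q.2
  have hda : Nat.card T ∣ Nat.card (fx O e) := by
    have h1 : Nat.card T ∣ Nat.card (fx O (u * w)) := by
      have : T.map (MulAut.conj g).toMonoidHom ≤ fx O (u * w) :=
        Subgroup.map_le_iff_le_comap.2 inf_le_right
      have := Subgroup.card_dvd_of_le this
      rwa [Subgroup.card_map_of_injective (MulAut.conj g).injective] at this
    have h2 : Nat.card (fx O (u * w)) = Nat.card (fx O e) := by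
      have e1 := h.card_split
      rw [hu.card_split, ← hfdef, hcardfu, mul_comm (Nat.card (fx O e))] at e1
      exact Nat.eq_of_mul_eq_mul_left Nat.card_pos e1
    exact h2 ▸ h1
  have hRcard : Nat.card R = Nat.card (fx O f) * Nat.card T := by
    rw [← Nat.card_prod]
    symm
    refine Nat.card_eq_of_bijective
      (fun p : fx O f × T => (⟨p.1 * p.2, mul_mem (hbR _ p.1.2) p.2.2.1⟩ : R)) ⟨?_, ?_⟩
    · rintro ⟨a, b⟩ ⟨c, d⟩ hh
      have hh' : (a : G) * b = c * d := congrArg Subtype.val hh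
      have h1 : (c : G)⁻¹ * a = d * (b : G)⁻¹ := by
        rw [eq_mul_inv_iff_mul_eq, mul_assoc, hh', inv_mul_cancel_left]
      have h2 : g * ((c : G)⁻¹ * a) * g⁻¹ = 1 := by
        refine hu.fx_disj ((hbu _).1 (mul_mem (inv_mem c.2) a.2)) ?_
        rw [h1]
        have hm : (d : G) * (b : G)⁻¹ ∈ T :=
          Subgroup.mul_mem T (SetLike.coe_mem d) (Subgroup.inv_mem T (SetLike.coe_mem b))
        exact hm.2
      have h3 : (c : G)⁻¹ * a = 1 := by simpa using h2
      refine Prod.ext (Subtype.ext (inv_mul_eq_one.1 h3).symm) (Subtype.ext ?_)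
      rw [h1] at h3
      exact (mul_inv_eq_one.1 h3).symm
    · rintro ⟨r, hr⟩
      obtain ⟨p, hp, q, hq, hpq⟩ := hu.split ((hOf r).1 hr.2)
      have hp' : g⁻¹ * p * g ∈ fx O f := (hbu _).2 (by
        rw [show g * (g⁻¹ * p * g) * g⁻¹ = p by group]; exact hp)
      refine ⟨(⟨_, hp'⟩, ⟨g⁻¹ * q * g, ⟨?_, ?_⟩⟩), Subtype.ext ?_⟩
      · rw [show g⁻¹ * q * g = (g⁻¹ * p * g)⁻¹ * (g⁻¹ * (g * r * g⁻¹) * g) by rw [hpq]; group,
          show g⁻¹ * (g * r * g⁻¹) * g = r by group]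
        exact Subgroup.mul_mem R (Subgroup.inv_mem R (hbR _ hp')) hr
      · show g * (g⁻¹ * q * g) * g⁻¹ ∈ fx O (u * w)
        rw [show g * (g⁻¹ * q * g) * g⁻¹ = q by group]
        exact hq
      · show g⁻¹ * p * g * (g⁻¹ * q * g) = r
        rw [show g⁻¹ * p * g * (g⁻¹ * q * g) = g⁻¹ * (p * q) * g by group, ← hpq]
        group
  -- the shape of involutions commuting with `f`
  have hinvf : ∀ v ∈ K, Commute v f → orderOf v = 2 →
      v = f ∨ ∃ r ∈ T, v = r * w ^ 2 ∨ v = f * (r * w ^ 2) := by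
    intro v hv hvf hvo
    obtain ⟨r, hr, i, j, rfl⟩ := hCKf v hv hvf
    have hrf := hOf_f r hr.2
    have hsq := H65.mul_self_eq_one hvo
    have hfr : ∀ z : G, Commute z f → f * z * (f * z) = z * z := fun z hz => by
      rw [mul_assoc, ← mul_assoc z, hz.eq, mul_assoc f z z, ← mul_assoc, hff, one_mul]
    have hr1 : r * r = 1 → r = 1 := fun hsq => by
      have h1 := hOf_pow r hr.2
      obtain ⟨n, hn⟩ := h.odd
      rwa [hn, pow_succ, pow_mul, sq, hsq, one_pow, one_mul] at h1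
    have hrT : r * w ^ 2 * (r * w ^ 2) = 1 → r ∈ T := fun hsq => (hT r).2 ⟨hr, by
      refine eq_inv_of_mul_eq_one_right ?_
      rw [← hsq]; group⟩
    fin_cases i <;> fin_cases j <;> simp only [Fin.val_zero, Fin.val_one, Fin.zero_eta,
      Fin.mk_one, pow_zero, pow_one, one_mul, mul_one] at hsq hvo ⊢
    · exact absurd (hr1 hsq) (H65.ne_one_of_orderOf hvo)
    · exact Or.inr ⟨r, hrT hsq, Or.inl rfl⟩
    · left
      rw [hfr r hrf] at hsq
      rw [hr1 hsq, mul_one]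
    · refine Or.inr ⟨r, hrT ?_, Or.inr rfl⟩
      rwa [hfr _ (hrf.mul_left hft.symm)] at hsq
  have hclass : ∀ v ∈ K, orderOf v = 2 → CK (w ^ 2) v ∨ CK f v := by
    intro v hv hvo
    by_contra hno
    push Not at hno
    have hne : ¬ IsConj (⟨w ^ 2, htK⟩ : ↥K) ⟨v, hv⟩ := fun hc =>
      hno.1 (isConj_sub.1 hc)
    obtain ⟨⟨z, hzK⟩, hzo, hzt, hzv⟩ := H65.exists_invol_commute_of_not_isConj
      (show orderOf (⟨w ^ 2, htK⟩ : ↥K) = 2 by rw [← Subgroup.orderOf_coe]; exact h.ot)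
      (show orderOf (⟨v, hv⟩ : ↥K) = 2 by rw [← Subgroup.orderOf_coe]; exact hvo) hne
    rw [← Subgroup.orderOf_coe] at hzo
    have hzt' : Commute z (w ^ 2) := congrArg Subtype.val hzt.eq
    have hzv' : Commute z v := congrArg Subtype.val hzv.eq
    have transfer : ∀ k ∈ K, ∀ p : G, k * z * k⁻¹ = p → k * v * k⁻¹ ∈ K ∧
        orderOf (k * v * k⁻¹) = 2 ∧ Commute (k * v * k⁻¹) p ∧ CK v (k * v * k⁻¹) := fun k hk p hp =>
      ⟨mul_mem (mul_mem hk hv) (inv_mem hk), (H65.orderOf_conj' k v).trans hvo,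
        hp ▸ hzv'.symm.map (MulAut.conj k), k, hk, rfl⟩
    rcases hinvt z hzt' hzo with hc | hc
    · obtain ⟨k, hk, hkz⟩ := CK_symm hc
      obtain ⟨-, ho', hcm, hck⟩ := transfer k hk _ hkz
      rcases hinvt _ hcm ho' with hd | hd
      · exact hno.1 (CK_trans hd (CK_symm hck))
      · exact hno.2 (CK_trans hd (CK_symm hck))
    · obtain ⟨k, hk, hkz⟩ := CK_symm hc
      obtain ⟨hK', ho', hcm, hck⟩ := transfer k hk _ hkz
      rcases hinvf _ hK' hcm ho' with hd | ⟨r, hr, hd⟩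
      · exact hno.2 (CK_trans ⟨1, K.one_mem, by rw [hd]; group⟩ (CK_symm hck))
      · obtain ⟨hrR, hrt⟩ := (hT r).1 hr
        obtain ⟨y, hy, hyy⟩ := sq_root (odd_of_le (H := T.map (MulAut.conj g).toMonoidHom)
          (Subgroup.map_le_iff_le_comap.2 fun z hz => hz.1.2) h.odd) (Subgroup.mem_map_of_mem _ hr)
        obtain ⟨y0, hy0, rfl⟩ := hy
        have hyy' : y0 * y0 = r := by
          apply (MulAut.conj g).injective
          simpa [map_mul] using hyy
        have hy0t := ((hT y0).1 hy0).2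
        have hyK : y0 ∈ K := hHK _ ((hT y0).1 hy0).1.1
        have hyinv : w ^ 2 * y0⁻¹ * w ^ 2 = y0 := by
          have := ((hT _).1 (inv_mem hy0)).2
          rwa [inv_inv] at this
        have hct : y0 * w ^ 2 * y0⁻¹ = r * w ^ 2 := by
          calc y0 * w ^ 2 * y0⁻¹ = y0 * (w ^ 2 * y0⁻¹ * w ^ 2) * (w ^ 2)⁻¹ := by group
            _ = r * w ^ 2 := by rw [hyinv, hyy', h.t_inv]
        rcases hd with hd | hd
        · exact hno.1 (CK_trans ⟨y0, hyK, hct.trans hd.symm⟩ (CK_symm hck))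
        · refine hno.2 (CK_trans (CK_trans htf ⟨y0, hyK, ?_⟩) (CK_symm hck))
          rw [hd, ← hct, ← hft.eq]
          calc y0 * (f * w ^ 2) * y0⁻¹ = (y0 * f) * w ^ 2 * y0⁻¹ := by group
            _ = f * (y0 * w ^ 2 * y0⁻¹) := by
              rw [(hOf_f y0 ((hT y0).1 hy0).1.2).eq]; group
  -- the three counts
  let tK : ↥K := ⟨w ^ 2, htK⟩
  let fK : ↥K := ⟨f, hfK⟩
  let wK : ↥K := ⟨w, hwK⟩
  let eK : ↥K := ⟨e, heK⟩
  have otK : orderOf tK = 2 := by rw [← Subgroup.orderOf_coe]; exact h.ot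
  have ofK : orderOf fK = 2 := by rw [← Subgroup.orderOf_coe]; exact h.oew
  have hnc : ¬ IsConj tK fK := fun hc => hfH (CK_mem (isConj_sub.1 hc) htH)
  have hallK : ∀ v : ↥K, orderOf v = 2 → IsConj tK v ∨ IsConj fK v := by
    intro v hv
    rw [← Subgroup.orderOf_coe] at hv
    exact (hclass _ v.2 hv).imp isConj_sub.2 isConj_sub.2
  have hCt : Nat.card ↥(centralizer ({tK} : Set ↥K)) =
      8 * (Nat.card (fx O e) * Nat.card (fx O f)) := by
    rw [card_cent_sub, ← h.card_split, ← h.card_cent]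
    refine Nat.card_congr (Equiv.subtypeEquivRight fun k => ?_)
    rw [mem_centralizer_singleton_iff]
    refine ⟨fun hk => hk.2, fun hk => ⟨?_, hk⟩⟩
    obtain ⟨x, hx, i, -, j, -, rfl⟩ := h.decomp k hk
    exact mul_mem (hOK x hx) (mul_mem (pow_mem hwK i) (pow_mem heK j))
  have hCf : Nat.card ↥(centralizer ({fK} : Set ↥K)) =
      4 * (Nat.card (fx O f) * Nat.card T) := by
    rw [card_cent_sub, ← hRcard, show (4 : ℕ) = Nat.card (Fin 2 × Fin 2) by simp, mul_comm,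
      ← Nat.card_prod]
    symm
    refine Nat.card_eq_of_bijective
      (fun p : R × (Fin 2 × Fin 2) =>
        (⟨f ^ (p.2.1 : ℕ) * (p.1 * (w ^ 2) ^ (p.2.2 : ℕ)),
          mul_mem (pow_mem hfK _) (mul_mem (hHK _ p.1.2.1) (pow_mem htK _)),
          ((Commute.refl f).pow_left _).mul_left
            ((hOf_f _ p.1.2.2).mul_left (hft.symm.pow_left _))⟩ :
          {k : G // k ∈ K ∧ Commute k f})) ⟨?_, ?_⟩
    · rintro ⟨r, i, j⟩ ⟨r', i', j'⟩ hh
      have hh' : f ^ (i : ℕ) * (r * (w ^ 2) ^ (j : ℕ)) = f ^ (i' : ℕ) * (r' * (w ^ 2) ^ (j' : ℕ)) :=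
        congrArg Subtype.val hh
      have hm : ∀ (r : R) (j : Fin 2), (r : G) * (w ^ 2) ^ (j : ℕ) ∈ H := fun r j =>
        mul_mem r.2.1 (pow_mem htH _)
      have hii : i = i' := by
        by_contra hne
        apply hfH
        have h1 := mul_mem (hm r' j') (inv_mem (hm r j))
        have h2 := mul_mem (hm r j) (inv_mem (hm r' j'))
        fin_cases i <;> fin_cases i' <;> simp only [Fin.zero_eta, Fin.mk_one, Fin.val_zero,
          Fin.val_one, pow_zero, pow_one, one_mul] at hh'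
        · exact absurd rfl hne
        · rw [hh', mul_inv_cancel_right] at h2; exact h2
        · rw [← hh', mul_inv_cancel_right] at h1; exact h1
        · exact absurd rfl hne
      subst hii
      have h3 := mul_left_cancel hh'
      have hjj : j = j' := by
        by_contra hne
        apply htOf
        have h1 : (r' : G)⁻¹ * r ∈ Of := mul_mem (inv_mem r'.2.2) r.2.2
        have h2 : (r : G)⁻¹ * r' ∈ Of := mul_mem (inv_mem r.2.2) r'.2.2
        fin_cases j <;> fin_cases j' <;> simp only [Fin.zero_eta, Fin.mk_one, Fin.val_zero,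
          Fin.val_one, pow_zero, pow_one, mul_one] at h3
        · exact absurd rfl hne
        · rw [h3, inv_mul_cancel_left] at h1; exact h1
        · rw [← h3, inv_mul_cancel_left] at h2; exact h2
        · exact absurd rfl hne
      subst hjj
      exact Prod.ext (Subtype.ext (mul_right_cancel h3)) rfl
    · rintro ⟨k, hk, hkf⟩
      obtain ⟨r, hr, i, j, rfl⟩ := hCKf k hk hkf
      exact ⟨(⟨r, hr⟩, i, j), rfl⟩
  have hcommz : ∀ p q z : G, p * p = 1 → q * q = 1 → z * z = 1 → z ∈ zpowers (p * q) →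
      Commute p z ∧ Commute q z := by
    intro p q z hp hq hz hzm
    obtain ⟨m, rfl⟩ := mem_zpowers_iff.1 hzm
    have hzi : ((p * q) ^ m)⁻¹ = (p * q) ^ m := inv_eq_of_mul_eq_one_right hz
    have h1 : Commute p ((p * q) ^ m) := by
      have := H26.conj_zpow_mul hp hq m
      rw [zpow_neg, hzi] at this
      show p * (p * q) ^ m = (p * q) ^ m * p
      nth_rw 2 [← this]
      rw [mul_assoc _ p p, hp, mul_one]
    refine ⟨h1, ?_⟩
    have h2 : Commute (p * q) ((p * q) ^ m) := (Commute.refl _).zpow_right m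
    have h3 := h1.mul_left h2
    rwa [← mul_assoc, hp, one_mul] at h3
  have hsqeq : ∀ p z : G, p * p = 1 → z ≠ 1 → z ∈ zpowers p → z = p := by
    intro p z hp hz hzm
    obtain ⟨m, rfl⟩ := mem_zpowers_iff.1 hzm
    rcases Int.even_or_odd m with ⟨k, hk⟩ | ⟨k, hk⟩
    · exact absurd (by rw [hk, ← two_mul, zpow_mul, zpow_two, hp, one_zpow]) hz
    · rw [hk, zpow_add, zpow_mul, zpow_two, hp, one_zpow, one_mul, zpow_one]
  have hopw : ∀ (x : G) (i : Fin 2), x ∈ fx O f →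
      Commute (x * ((w ^ 2) ^ (i : ℕ) * e)) (w ^ 2) ∧ CK (w ^ 2) (x * ((w ^ 2) ^ (i : ℕ) * e)) := by
    intro x i hx
    refine ⟨(h.le x hx.1).mul_left (((Commute.refl _).pow_left _).mul_left h.t_comm_e.symm), ?_⟩
    obtain ⟨y, hy, a1, a2⟩ := h.exists_conj_e hx
    rcases pow_two_cases (t := w ^ 2) i with e1 | e1 <;> rw [e1]
    · rw [one_mul]; exact CK_trans hte_K.1 ⟨y, hOK y hy.1, a1⟩
    · exact CK_trans hte_K.2 ⟨y, hOK y hy.1, a2⟩
  have hopf : ∀ (x : G) (i : Fin 2), x ∈ fx O e → CK f (x * ((w ^ 2) ^ (i : ℕ) * f)) := by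
    intro x i hx
    have hx' : x ∈ fx O (e * w * w) := by
      rw [h.swap.mem_fx']; exact ⟨hx.1, hfx x hx⟩
    obtain ⟨y, hy, a1, a2⟩ := h.swap.exists_conj_e hx'
    rcases pow_two_cases (t := w ^ 2) i with e1 | e1 <;> rw [e1]
    · rw [one_mul]; exact ⟨y, hOK y hy.1, a1⟩
    · exact CK_trans htf ⟨y, hOK y hy.1, a2⟩
  have hOH' : ∀ (x : G) (i : Fin 2), x ∈ O → x * (w ^ 2) ^ (i : ℕ) ∈ H := fun x i hx =>
    mul_mem (hOH x hx) (pow_mem htH _)
  have hpairT : Nat.card {p : ↥K × ↥K // IsConj tK p.1 ∧ IsConj fK p.2 ∧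
      tK ∈ zpowers (p.1 * p.2)} = 4 * (Nat.card (fx O e) * Nat.card (fx O f)) := by
    rw [show 4 * (Nat.card (fx O e) * Nat.card (fx O f)) =
      Nat.card ((fx O f × Fin 2) × (fx O e × Fin 2)) by simp [Nat.card_prod]; ring]
    symm
    refine Nat.card_eq_of_bijective (fun p : (fx O f × Fin 2) × (fx O e × Fin 2) =>
      (⟨(⟨p.1.1 * ((w ^ 2) ^ (p.1.2 : ℕ) * e),
          mul_mem (hOK _ p.1.1.2.1) (mul_mem (pow_mem htK _) heK)⟩,
        ⟨p.2.1 * ((w ^ 2) ^ (p.2.2 : ℕ) * f),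
          mul_mem (hOK _ p.2.1.2.1) (mul_mem (pow_mem htK _) hfK)⟩),
        isConj_sub.2 (hopw _ _ p.1.1.2).2, isConj_sub.2 (hopf _ _ p.2.1.2), ?_⟩ :
        {p : ↥K × ↥K // IsConj tK p.1 ∧ IsConj fK p.2 ∧ tK ∈ zpowers (p.1 * p.2)})) ⟨?_, ?_⟩
    · rw [zpowers_sub]
      refine mem_zpowers_iff.2 ⟨2, ?_⟩
      show ((p.1.1 : G) * ((w ^ 2) ^ (p.1.2 : ℕ) * e) * ((p.2.1 : G) * ((w ^ 2) ^ (p.2.2 : ℕ) * f)))
        ^ (2 : ℤ) = w ^ 2
      generalize hx : (p.1.1 : G) = x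
      generalize hy : (p.2.1 : G) = y
      have hxO : x ∈ O := hx ▸ p.1.1.2.1
      have hyfx : y ∈ fx O e := hy ▸ p.2.1.2
      have hey : Commute e y :=
        (show Commute y e from mem_centralizer_singleton_iff.1 hyfx.2).symm
      set n := (p.1.2 : ℕ) + (p.2.2 : ℕ) with hn
      have htn : ∀ z : G, Commute z (w ^ 2) → Commute z ((w ^ 2) ^ n) := fun z hz => hz.pow_right n
      have hprod : x * ((w ^ 2) ^ (p.1.2 : ℕ) * e) * (y * ((w ^ 2) ^ (p.2.2 : ℕ) * f)) =
          x * y * (w ^ 2) ^ n * w := by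
        have c1 : e * (y * ((w ^ 2) ^ (p.2.2 : ℕ) * f)) = y * (w ^ 2) ^ (p.2.2 : ℕ) * w := by
          calc e * (y * ((w ^ 2) ^ (p.2.2 : ℕ) * f))
              = (e * y) * (w ^ 2) ^ (p.2.2 : ℕ) * f := by group
            _ = y * (e * (w ^ 2) ^ (p.2.2 : ℕ)) * f := by rw [hey.eq]; group
            _ = y * (w ^ 2) ^ (p.2.2 : ℕ) * (e * f) := by
              rw [(h.t_comm_e.symm.pow_right _).eq]; group
            _ = y * (w ^ 2) ^ (p.2.2 : ℕ) * w := by
              rw [show e * f = w by rw [hfdef, ← mul_assoc e, h.e2, one_mul]]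
        calc x * ((w ^ 2) ^ (p.1.2 : ℕ) * e) * (y * ((w ^ 2) ^ (p.2.2 : ℕ) * f))
            = x * (w ^ 2) ^ (p.1.2 : ℕ) * (e * (y * ((w ^ 2) ^ (p.2.2 : ℕ) * f))) := by group
          _ = x * ((w ^ 2) ^ (p.1.2 : ℕ) * y) * (w ^ 2) ^ (p.2.2 : ℕ) * w := by rw [c1]; group
          _ = x * y * (w ^ 2) ^ n * w := by
            rw [(((h.le y hyfx.1).symm).pow_left _).eq, hn, pow_add]; group
      rw [hprod, zpow_two]
      have hzz : x * y ∈ O := mul_mem hxO hyfx.1
      generalize x * y = z at hzz ⊢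
      calc z * (w ^ 2) ^ n * w * (z * (w ^ 2) ^ n * w)
          = z * (w ^ 2) ^ n * (w * z * w⁻¹) * (w * (w ^ 2) ^ n * w⁻¹) * (w * w) := by group
        _ = z * ((w ^ 2) ^ n * z⁻¹) * (w ^ 2) ^ n * w ^ 2 := by
            rw [h.conj_w hzz, (h.t_comm_w.symm.pow_right n).eq, mul_inv_cancel_right, ← sq w]
            group
        _ = (w ^ 2) ^ n * (w ^ 2) ^ n * w ^ 2 := by
            rw [← (htn _ (h.le _ (inv_mem hzz))).eq, ← mul_assoc z, mul_inv_cancel, one_mul]
        _ = w ^ 2 := by rw [← pow_add, ← two_mul, pow_mul, sq (w ^ 2), h.t2, one_pow, one_mul]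
    · rintro ⟨⟨x, i⟩, ⟨y, j⟩⟩ ⟨⟨x', i'⟩, ⟨y', j'⟩⟩ hh
      have h1 : (x : G) * ((w ^ 2) ^ (i : ℕ) * e) = x' * ((w ^ 2) ^ (i' : ℕ) * e) :=
        congrArg (fun q => (q.1.1 : G)) hh
      have h2 : (y : G) * ((w ^ 2) ^ (j : ℕ) * f) = y' * ((w ^ 2) ^ (j' : ℕ) * f) :=
        congrArg (fun q => (q.1.2 : G)) hh
      rw [← pow_mul, ← pow_mul] at h1 h2
      obtain ⟨a1, b1, -⟩ := h.decomp_unique x.2.1 x'.2.1 (i := 2 * (i : ℕ)) (i' := 2 * (i' : ℕ))
        (j := 1) (j' := 1) (by omega) (by omega) (by norm_num) (by norm_num) (by simpa using h1)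
      obtain ⟨a2, b2, -⟩ := h.swap.decomp_unique y.2.1 y'.2.1 (i := 2 * (j : ℕ))
        (i' := 2 * (j' : ℕ)) (j := 1) (j' := 1) (by omega) (by omega) (by norm_num) (by norm_num)
        (by simpa using h2)
      exact Prod.ext (Prod.ext (Subtype.ext a1) (Fin.ext (show (i : ℕ) = i' by omega)))
        (Prod.ext (Subtype.ext a2) (Fin.ext (show (j : ℕ) = j' by omega)))
    · rintro ⟨⟨⟨p, hpK⟩, ⟨q, hqK⟩⟩, hp, hq, hz⟩
      rw [zpowers_sub] at hz
      change w ^ 2 ∈ zpowers (p * q) at hz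
      have hp' : CK (w ^ 2) p := isConj_sub.1 hp
      have hq' : CK f q := isConj_sub.1 hq
      have hpo := (CK_order hp').trans h.ot
      have hqo := (CK_order hq').trans h.oew
      obtain ⟨hpt, hqt⟩ := hcommz p q _ (H65.mul_self_eq_one hpo) (H65.mul_self_eq_one hqo)
        h.t2 hz
      obtain ⟨y, hy, j, rfl⟩ : ∃ y ∈ fx O e, ∃ j : Fin 2, q = y * ((w ^ 2) ^ (j : ℕ) * f) := by
        rcases h.invol_cases hqt hqo with e1 | ⟨x, hx, e1⟩ | ⟨x, hx, e1⟩
        · exact absurd (e1 ▸ htH) (CK_notMem hq' hfH)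
        · refine absurd ?_ (CK_notMem hq' hfH)
          rcases e1 with rfl | rfl
          · exact mul_mem (hOH x hx.1) heH
          · exact mul_mem (hOH x hx.1) (mul_mem htH heH)
        · rcases e1 with rfl | rfl
          · exact ⟨x, hx, 0, by simp [hfdef]⟩
          · exact ⟨x, hx, 1, by simp [hfdef]⟩
      obtain ⟨x, hx, i, rfl⟩ : ∃ x ∈ fx O f, ∃ i : Fin 2, p = x * ((w ^ 2) ^ (i : ℕ) * e) := by
        rcases h.invol_cases hpt hpo with e1 | ⟨x, hx, e1⟩ | ⟨x, hx, e1⟩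
        · exfalso
          subst e1
          have hsq : w ^ 2 * (y * ((w ^ 2) ^ (j : ℕ) * f)) *
              (w ^ 2 * (y * ((w ^ 2) ^ (j : ℕ) * f))) = 1 := by
            rw [← sq, hqt.symm.mul_pow, sq (w ^ 2), h.t2, one_mul, sq (y * ((w ^ 2) ^ (j : ℕ) * f)),
              H65.mul_self_eq_one hqo]
          have h1 := hsqeq _ _ hsq h.w2_ne hz
          exact H65.ne_one_of_orderOf hqo (mul_left_cancel (h1.symm.trans (mul_one _).symm))
        · rcases e1 with rfl | rfl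
          · exact ⟨x, hx, 0, by simp⟩
          · exact ⟨x, hx, 1, by simp⟩
        · exfalso
          have hm := CK_mem hp' htH
          rcases e1 with rfl | rfl
          · exact hfH ((mul_mem_cancel_left (hOH x hx.1)).1 hm)
          · exact hfH ((mul_mem_cancel_left htH).1 ((mul_mem_cancel_left (hOH x hx.1)).1 hm))
      exact ⟨((⟨x, hx⟩, i), (⟨y, hy⟩, j)), rfl⟩
  have hpairF : Nat.card {p : ↥K × ↥K // IsConj tK p.1 ∧ IsConj fK p.2 ∧
      fK ∈ zpowers (p.1 * p.2)} = Nat.card T * Nat.card T := by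
    rw [← Nat.card_prod]
    symm
    have hT2 : ∀ r ∈ T, orderOf (r * w ^ 2) = 2 ∧ orderOf (f * (r * w ^ 2)) = 2 ∧
        r * w ^ 2 ∈ H ∧ f * (r * w ^ 2) ∉ H := by
      intro r hr
      obtain ⟨hrR, hrt⟩ := (hT r).1 hr
      have hm : r * w ^ 2 ∈ H := mul_mem hrR.1 htH
      have hsq : r * w ^ 2 * (r * w ^ 2) = 1 := by
        rw [show r * w ^ 2 * (r * w ^ 2) = r * (w ^ 2 * r * w ^ 2) by group, hrt, mul_inv_cancel]
      have hnm : f * (r * w ^ 2) ∉ H := fun hc => hfH ((mul_mem_cancel_right hm).1 hc)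
      have hne : r * w ^ 2 ≠ 1 := fun hc => htOf (by
        rw [eq_inv_of_mul_eq_one_right hc]
        exact inv_mem hrR.2)
      refine ⟨H26.orderOf_two_of_mul_self hsq hne, H26.orderOf_two_of_mul_self ?_
        (fun hc => hnm (hc ▸ H.one_mem)), hm, hnm⟩
      have hcf : Commute f (r * w ^ 2) := (hOf_f r hrR.2).symm.mul_right hft
      rw [mul_assoc, ← mul_assoc (r * w ^ 2), ← hcf.eq, mul_assoc f, hsq, mul_one, hff]
    refine Nat.card_eq_of_bijective (fun p : T × T =>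
      (⟨(⟨p.1 * w ^ 2, hHK _ (hT2 _ p.1.2).2.2.1⟩,
        ⟨f * (p.2 * w ^ 2), mul_mem hfK (hHK _ (hT2 _ p.2.2).2.2.1)⟩),
        isConj_sub.2 ?_, isConj_sub.2 ?_, ?_⟩ :
        {p : ↥K × ↥K // IsConj tK p.1 ∧ IsConj fK p.2 ∧ fK ∈ zpowers (p.1 * p.2)})) ⟨?_, ?_⟩
    · rcases hclass _ (hHK _ (hT2 _ p.1.2).2.2.1) (hT2 _ p.1.2).1 with hc | hc
      · exact hc
      · exact absurd (hT2 _ p.1.2).2.2.1 (CK_notMem hc hfH)
    · rcases hclass _ (mul_mem hfK (hHK _ (hT2 _ p.2.2).2.2.1)) (hT2 _ p.2.2).2.1 with hc | hc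
      · exact absurd (CK_mem hc htH) (hT2 _ p.2.2).2.2.2
      · exact hc
    · rw [zpowers_sub]
      refine mem_zpowers_iff.2 ⟨(Nat.card O : ℤ), ?_⟩
      rw [zpow_natCast]
      show ((p.1 : G) * w ^ 2 * (f * ((p.2 : G) * w ^ 2))) ^ Nat.card O = f
      have hfp : Commute f ((p.1 : G) * w ^ 2) := (hOf_f _ p.1.2.1.2).symm.mul_right hft
      rw [← mul_assoc, ← hfp.eq, mul_assoc f]
      refine hfz _ ?_
      rw [show (p.1 : G) * w ^ 2 * ((p.2 : G) * w ^ 2) = p.1 * (w ^ 2 * p.2 * w ^ 2) by group,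
        ((hT _).1 p.2.2).2]
      exact mul_mem p.1.2.1.2 (inv_mem p.2.2.1.2)
    · rintro ⟨a, b⟩ ⟨a', b'⟩ hh
      have h1 : (a : G) * w ^ 2 = a' * w ^ 2 := congrArg (fun q => (q.1.1 : G)) hh
      have h2 : f * ((b : G) * w ^ 2) = f * ((b' : G) * w ^ 2) :=
        congrArg (fun q => (q.1.2 : G)) hh
      exact Prod.ext (Subtype.ext (mul_right_cancel h1))
        (Subtype.ext (mul_right_cancel (mul_left_cancel h2)))
    · rintro ⟨⟨⟨p, hpK⟩, ⟨q, hqK⟩⟩, hp, hq, hz⟩
      rw [zpowers_sub] at hz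
      change f ∈ zpowers (p * q) at hz
      have hp' : CK (w ^ 2) p := isConj_sub.1 hp
      have hq' : CK f q := isConj_sub.1 hq
      have hpo := (CK_order hp').trans h.ot
      have hqo := (CK_order hq').trans h.oew
      obtain ⟨hpf, hqf⟩ := hcommz p q _ (H65.mul_self_eq_one hpo) (H65.mul_self_eq_one hqo) hff hz
      obtain ⟨r, hr, rfl⟩ : ∃ r ∈ T, p = r * w ^ 2 := by
        rcases hinvf p hpK hpf hpo with e1 | ⟨r, hr, e1 | e1⟩
        · exact absurd (e1 ▸ CK_mem hp' htH) hfH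
        · exact ⟨r, hr, e1⟩
        · exact absurd (e1 ▸ CK_mem hp' htH) (hT2 r hr).2.2.2
      obtain ⟨r', hr', rfl⟩ : ∃ r ∈ T, q = f * (r * w ^ 2) := by
        rcases hinvf q hqK hqf hqo with e1 | ⟨r', hr', e1 | e1⟩
        · exfalso
          subst e1
          have hsq : r * w ^ 2 * f * (r * w ^ 2 * f) = 1 := by
            rw [← sq, hpf.mul_pow, sq (r * w ^ 2), H65.mul_self_eq_one hpo, one_mul, sq f, hff]
          have h1 := hsqeq _ _ hsq (H65.ne_one_of_orderOf h.oew) hz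
          exact H65.ne_one_of_orderOf hpo (mul_right_cancel (h1.symm.trans (one_mul f).symm))
        · exact absurd (e1 ▸ (hT2 r' hr').2.2.1) (CK_notMem hq' hfH)
        · exact ⟨r', hr', e1⟩
      exact ⟨(⟨r, hr⟩, ⟨r', hr'⟩), rfl⟩
  have horder := S0213.result tK fK otK ofK hnc hallK
  rw [hpairT, hpairF, hCt, hCf] at horder
  -- the class multiplication at `w`
  haveI : Fintype ↥K := Fintype.ofFinite _
  have hidx : (H.subgroupOf K).index = 2 := by
    rw [Subgroup.index_eq_two_iff]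
    refine ⟨fK, fun b => ?_⟩
    simp only [mem_subgroupOf, Subgroup.coe_mul]
    change Xor ((b : G) * f ∈ H) ((b : G) ∈ H)
    rcases b.2 with hb | hb
    · exact Or.inr ⟨hb, fun hc => hfH ((mul_mem_cancel_left hb).1 hc)⟩
    · exact Or.inl ⟨hb, fun hc => hfH ((mul_mem_cancel_left hc).1 hb)⟩
  have hKcard : Nat.card K = 2 * Nat.card H := by
    rw [← (H.subgroupOf K).card_mul_index, hidx,
      Nat.card_congr (Subgroup.subgroupOfEquivOfLe hHK).toEquiv]
    ring
  have hcw : Nat.card ↥(centralizer ({wK} : Set ↥K)) = 4 := by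
    rw [card_cent_sub, ← h.ow, ← Nat.card_zpowers]
    refine Nat.card_congr (Equiv.subtypeEquivRight fun k => ⟨fun hk => h.cent k hk.2, fun hk => ?_⟩)
    obtain ⟨m, rfl⟩ := mem_zpowers_iff.1 hk
    exact ⟨zpow_mem hwK m, (Commute.refl w).zpow_left m⟩
  have hcount : Nat.card {k : ↥K // IsConj tK k ∧ IsConj fK (k⁻¹ * wK)} = 2 := by
    rw [show (2 : ℕ) = Nat.card (Fin 2) by simp]
    symm
    have hew : e * w = f := rfl
    have hte : ∀ i : Fin 2, ((w ^ 2) ^ (i : ℕ) * e)⁻¹ * w = (w ^ 2) ^ (i : ℕ) * f := by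
      intro i
      rw [mul_inv_rev, h.e_inv, ← inv_pow, h.t_inv, mul_assoc, ← (h.t_comm_w.pow_left _).symm.eq,
        ← mul_assoc, hew, (hft.pow_right _).eq]
    refine Nat.card_eq_of_bijective (fun i : Fin 2 =>
      (⟨⟨(w ^ 2) ^ (i : ℕ) * e, mul_mem (pow_mem htK _) heK⟩, isConj_sub.2 ?_, isConj_sub.2 ?_⟩ :
        {k : ↥K // IsConj tK k ∧ IsConj fK (k⁻¹ * wK)})) ⟨?_, ?_⟩
    · have h1 := (hopw 1 i (one_mem _)).2
      rw [one_mul] at h1
      exact h1
    · show CK f (((w ^ 2) ^ (i : ℕ) * e)⁻¹ * w)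
      have h1 := hopf 1 i (one_mem _)
      rw [one_mul] at h1
      rwa [hte]
    · intro i j hij
      have h1 : (w ^ 2) ^ (i : ℕ) * e = (w ^ 2) ^ (j : ℕ) * e :=
        congrArg (fun q => ((q.1 : ↥K) : G)) hij
      have h2 := pow_injOn_Iio_orderOf (x := w ^ 2) (by simp [h.ot, i.2]) (by simp [h.ot, j.2])
        (mul_right_cancel h1)
      exact Fin.ext h2
    · rintro ⟨⟨p, hpK⟩, hp, hq⟩
      have hp' : CK (w ^ 2) p := isConj_sub.1 hp
      have hq' : CK f (p⁻¹ * w) := isConj_sub.1 hq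
      have hpo := (CK_order hp').trans h.ot
      have hqo := (CK_order hq').trans h.oew
      have hpi := H65.inv_eq_self hpo
      have hpt : Commute p (w ^ 2) := by
        have hqq := H65.mul_self_eq_one hqo
        rw [hpi] at hqq
        have h1 : p * w * p = w⁻¹ := eq_inv_of_mul_eq_one_left (by
          rw [← hqq]; group)
        have h2 : p * w ^ 2 * p⁻¹ = w ^ 2 := by
          rw [← conj_pow, hpi, h1, inv_pow, h.t_inv]
        exact mul_inv_eq_iff_eq_mul.1 h2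
      rcases h.invol_cases hpt hpo with e1 | ⟨x, hx, e1⟩ | ⟨x, hx, e1⟩
      · exfalso
        subst e1
        rw [hpi, ← pow_succ] at hqo
        norm_num [orderOf_pow, h.ow] at hqo
      · obtain ⟨i, hi⟩ : ∃ i : Fin 2, p = x * ((w ^ 2) ^ (i : ℕ) * e) := by
          rcases e1 with rfl | rfl
          · exact ⟨0, by simp⟩
          · exact ⟨1, by simp⟩
        subst hi
        refine ⟨i, Subtype.ext (Subtype.ext ?_)⟩
        show (w ^ 2) ^ (i : ℕ) * e = x * ((w ^ 2) ^ (i : ℕ) * e)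
        have hxf : Commute x f := mem_centralizer_singleton_iff.1 hx.2
        have hqq := H65.mul_self_eq_one hqo
        rw [hpi, mul_assoc x, mul_assoc ((w ^ 2) ^ (i : ℕ)), hew] at hqq
        have hc : Commute x ((w ^ 2) ^ (i : ℕ) * f) :=
          ((h.le x hx.1).pow_right _).mul_right hxf
        have hs : (w ^ 2) ^ (i : ℕ) * f * ((w ^ 2) ^ (i : ℕ) * f) = 1 := by
          rw [← sq, (hft.symm.pow_left _).mul_pow, sq f, hff, mul_one, ← pow_mul, mul_comm, pow_mul,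
            sq (w ^ 2), h.t2, one_pow]
        rw [← sq, hc.mul_pow, sq x, sq ((w ^ 2) ^ (i : ℕ) * f), hs, mul_one] at hqq
        rw [eq_one_of_sq h.odd hx.1 hqq, one_mul]
      · exfalso
        have hm := CK_mem hp' htH
        rcases e1 with rfl | rfl
        · exact hfH ((mul_mem_cancel_left (hOH x hx.1)).1 hm)
        · exact hfH ((mul_mem_cancel_left htH).1 ((mul_mem_cancel_left (hOH x hx.1)).1 hm))
  obtain ⟨x, c, hx, hc, heq⟩ := column_four (H.subgroupOf K) hidx tK eK wK fK otK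
    (by rw [← Subgroup.orderOf_coe]; exact h.oe) ofK (mem_subgroupOf.2 htH)
    (fun hc => hwH (mem_subgroupOf.1 hc)) (fun hc => hfH (mem_subgroupOf.1 hc))
    (by rw [← Subgroup.orderOf_coe]; exact h.ow) hcw
    (isConj_sub.2 ⟨e, heK, h.inv⟩) (isConj_sub.2 hte_K.1)
    (isConj_sub.2 hte_K.2) (Subtype.ext h.t_comm_e.eq) _ _ hCt hCf hcount
  refine ⟨Nat.card T, hda, ?_, ?_, K, hKcard, fun z hz => hOK z hz.1, hKnorm⟩
  · rw [horder] at heq
    push_cast at heq
    have ha0 : (0 : ℤ) < Nat.card (fx O e) := by exact_mod_cast Nat.card_pos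
    have hb0 : (0 : ℤ) < Nat.card (fx O f) := by exact_mod_cast Nat.card_pos
    have hd0 : (0 : ℤ) < Nat.card T := by exact_mod_cast Nat.card_pos
    have hle : (Nat.card (fx O f) : ℤ) ≤ Nat.card T := by
      generalize (Nat.card (fx O e) : ℤ) = a at *
      generalize (Nat.card (fx O f) : ℤ) = b at *
      generalize (Nat.card T : ℤ) = d at *
      have hE : (2 * b + d) * (x - c) = 4 * b * x := by
        have : (8 * a * b * d) * ((2 * b + d) * (x - c)) = (8 * a * b * d) * (4 * b * x) := by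
          linear_combination heq
        exact mul_left_cancel₀ (by positivity) this
      nlinarith
    exact_mod_cast hle
  · rw [hKcard] at horder
    linarith [horder]

end

end Setup

end Cfsg.Agent.H83.SmallCent
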