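import Cfsg.Agent.S4481
import Cfsg.Agent.S4482
import Cfsg.Agent.H83.SmallCent.Outer
import Cfsg.Agent.H83.SmallCent.Arith

/-!
The order of a simple group with `C(w) = ⟨w⟩` of order four and `C(w²) = O ⋊ D₈`, `O ≠ 1`.
-/

set_option autoImplicit false
set_option linter.unusedSectionVars false
set_option linter.style.haveILetI false

open scoped ComplexConjugate

namespace Cfsg.Agent.H83.SmallCent

open Subgroup Cfsg Cfsg.Agent.CharBasic

universe u

theorem exists_maximal_two : ∃ M : Ideal Cfsg.AlgInt, Cfsg.IsPModular 2 M := by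
  have h2 : ¬ IsUnit (2 : Cfsg.AlgInt) := by
    rintro ⟨v, hv⟩
    have h1 : (2 : ℂ) * ((v⁻¹ : Cfsg.AlgIntˣ) : Cfsg.AlgInt) = 1 := by
      have := congrArg Subtype.val v.mul_inv
      rw [hv] at this
      exact this
    obtain ⟨k, hk⟩ := H65.CentralFour.even_of_two_mul (k := 1)
      (v⁻¹ : Cfsg.AlgIntˣ).1.2 (by rw [Int.cast_one]; exact h1.symm)
    omega
  obtain ⟨M, hM, hle⟩ := Ideal.exists_le_maximal (Ideal.span {(2 : Cfsg.AlgInt)})
    (by rwa [Ne, Ideal.span_singleton_eq_top])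
  exact ⟨M, Nat.prime_two, hM, by exact_mod_cast hle (Ideal.subset_span rfl)⟩

variable {G : Type u} [Group G] [Finite G]

namespace Setup

variable {w e : G} {O : Subgroup G}

section

variable (h : Setup w e O)
include h

theorem fx_swap : fx O (e * w * w) = fx O e := by
  ext x
  rw [h.swap.mem_fx', h.mem_fx]
  refine and_congr_right fun hx => ?_
  rw [h.conj_ew hx, inv_inj]

theorem w_e_order : orderOf (w * e) = 2 := by
  rw [show w * e = w * (e * w) * w⁻¹ by group]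
  exact (H65.orderOf_conj' w _).trans h.oew

theorem isConj_inv : IsConj w w⁻¹ := isConj_iff.2 ⟨e, h.inv⟩

/-- The centraliser of the four-group. -/
theorem card_cent_pair :
    Nat.card ↥(centralizer ({w ^ 2, e} : Set G)) = 4 * Nat.card (fx O e) := by
  have hmem : ∀ c : G, c ∈ centralizer ({w ^ 2, e} : Set G) ↔ Commute c (w ^ 2) ∧ Commute c e := by
    intro c
    rw [mem_centralizer_iff]
    refine ⟨fun hc => ⟨(hc _ (by simp)).symm, (hc _ (by simp)).symm⟩, fun hc z hz => ?_⟩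
    rcases hz with rfl | hz
    · exact hc.1.symm.eq
    · rw [Set.mem_singleton_iff.1 hz]; exact hc.2.symm.eq
  rw [show (4 : ℕ) = Nat.card (Fin 2 × Fin 2) by simp, mul_comm, ← Nat.card_prod]
  symm
  refine Nat.card_eq_of_bijective (fun p : fx O e × (Fin 2 × Fin 2) =>
    (⟨(p.1 : G) * (w ^ (2 * (p.2.1 : ℕ)) * e ^ (p.2.2 : ℕ)), (hmem _).2 ?_⟩ :
      ↥(centralizer ({w ^ 2, e} : Set G)))) ⟨?_, ?_⟩
  · rw [pow_mul]
    exact ⟨(h.le _ p.1.2.1).mul_left (((Commute.refl _).pow_left _).mul_left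
        (h.t_comm_e.symm.pow_left _)),
      (show Commute (p.1 : G) e from mem_centralizer_singleton_iff.1 p.1.2.2).mul_left
        ((h.t_comm_e.pow_left _).mul_left ((Commute.refl e).pow_left _))⟩
  · rintro ⟨x, i, j⟩ ⟨x', i', j'⟩ hh
    obtain ⟨a, b, c⟩ := h.decomp_unique x.2.1 x'.2.1 (i := 2 * (i : ℕ)) (i' := 2 * (i' : ℕ))
      (j := (j : ℕ)) (j' := (j' : ℕ)) (by omega) (by omega) j.2 j'.2 (congrArg Subtype.val hh)
    exact Prod.ext (Subtype.ext a) (Prod.ext (Fin.ext (show (i : ℕ) = i' by omega)) (Fin.ext c))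
  · rintro ⟨c, hc⟩
    obtain ⟨hct, hce⟩ := (hmem c).1 hc
    obtain ⟨x, hx, rfl | rfl | rfl | rfl⟩ := h.cent_four hct hce
    · exact ⟨(⟨c, hx⟩, 0, 0), by simp⟩
    · exact ⟨(⟨x, hx⟩, 1, 0), by simp⟩
    · exact ⟨(⟨x, hx⟩, 0, 1), by simp⟩
    · exact ⟨(⟨x, hx⟩, 1, 1), by simp⟩

theorem card_cent_pair' :
    Nat.card ↥(centralizer ({w ^ 2, w * e} : Set G)) = 4 * Nat.card (fx O (e * w)) := by
  rw [← h.swap.card_cent_pair]
  congr 2
  have hwe : w * e = w ^ 2 * (e * w) := by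
    rw [h.e_mul_w, ← mul_assoc, ← pow_add, show 2 + 3 = 4 + 1 by norm_num, pow_add, h.w4, one_mul,
      pow_one]
  ext c
  simp only [mem_centralizer_iff, Set.mem_insert_iff, Set.mem_singleton_iff, forall_eq_or_imp,
    forall_eq, hwe]
  constructor
  · rintro ⟨h1, h2⟩
    refine ⟨h1, ?_⟩
    have := (show Commute (w ^ 2) c from h1).mul_left (show Commute (w ^ 2 * (e * w)) c from h2)
    rwa [← mul_assoc, h.t2, one_mul] at this
  · rintro ⟨h1, h2⟩
    exact ⟨h1, ((show Commute (w ^ 2) c from h1).mul_left (show Commute (e * w) c from h2)).eq⟩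

theorem closure_le_sylow {S : Sylow 2 G} (hwS : w ∈ (S : Subgroup G)) (heS : e ∈ (S : Subgroup G))
    (hS : Nat.card ↥(S : Subgroup G) = 8) : closure ({w, e} : Set G) = (S : Subgroup G) := by
  have hle : closure ({w, e} : Set G) ≤ (S : Subgroup G) := (closure_le _).2 (by
    rintro x (rfl | rfl)
    · exact hwS
    · exact heS)
  refine Subgroup.eq_of_le_of_card_ge hle ?_
  rw [hS, show (8 : ℕ) = Nat.card (Fin 4 × Fin 2) by simp]
  refine Nat.card_le_card_of_injective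
    (fun p => (⟨w ^ (p.1 : ℕ) * e ^ (p.2 : ℕ), h.rep_mem _ _⟩ : ↥(closure ({w, e} : Set G))))
    fun p q hpq => ?_
  obtain ⟨-, a, b⟩ := h.decomp_unique O.one_mem O.one_mem p.1.2 q.1.2 p.2.2 q.2.2
    (by rw [one_mul, one_mul]; exact congrArg Subtype.val hpq)
  exact Prod.ext (Fin.ext a) (Fin.ext b)

/-- The sum of a character over the Sylow subgroup is a multiple of eight. -/
theorem sylow_sum {χ : G → ℂ} (hχ : IsCharacter G χ) :
    ∃ n : ℕ, χ 1 + 2 * χ w + 5 * χ (w ^ 2) = 8 * n := by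
  classical
  haveI := Fintype.ofFinite G
  let D := closure ({w, e} : Set G)
  let φ : Fin 4 × Fin 2 → ↥D := fun p => ⟨w ^ (p.1 : ℕ) * e ^ (p.2 : ℕ), h.rep_mem _ _⟩
  have hinj : Function.Injective φ := fun p q hpq => by
    obtain ⟨-, a, b⟩ := h.decomp_unique O.one_mem O.one_mem p.1.2 q.1.2 p.2.2 q.2.2
      (by rw [one_mul, one_mul]; exact congrArg Subtype.val hpq)
    exact Prod.ext (Fin.ext a) (Fin.ext b)
  have hsurj : Function.Surjective φ := by
    rintro ⟨c, hc⟩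
    have hct : Commute c (w ^ 2) := by
      have hle : D ≤ centralizer {w ^ 2} := (closure_le _).2 (by
        rintro x (rfl | rfl)
        · exact mem_centralizer_singleton_iff.2 h.t_comm_w.symm.eq
        · exact mem_centralizer_singleton_iff.2 h.t_comm_e.symm.eq)
      exact mem_centralizer_singleton_iff.1 (hle hc)
    obtain ⟨x, hx, i, hi, j, hj, rfl⟩ := h.decomp c hct
    have h1 : x = 1 := h.eq_one_of_mem hx (by
      rw [show x = x * (w ^ i * e ^ j) * (w ^ i * e ^ j)⁻¹ by group]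
      exact mul_mem hc (inv_mem (h.rep_mem _ _)))
    exact ⟨(⟨i, hi⟩, ⟨j, hj⟩), Subtype.ext (by simp [φ, h1])⟩
  haveI : Fintype ↥D := Fintype.ofFinite _
  obtain ⟨n, hn⟩ := classInner_isChar_nat (CharInduce.IsChar.comp hχ D.subtype)
    (CharInduce.isCharacter_hom 1)
  refine ⟨n, ?_⟩
  have hinv : ∀ v : G, orderOf v = 2 → χ v = χ (w ^ 2) := by
    intro v hv
    obtain ⟨k, hk⟩ := isConj_iff.1 (h.conj v hv)
    rw [← hk]; exact IsChar.isClassFunction hχ _ k
  have hw3 : χ (w ^ 3) = χ w := by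
    rw [← h.w_inv, ← h.inv]; exact IsChar.isClassFunction hχ _ e
  rw [classInner, ← Fintype.sum_bijective φ ⟨hinj, hsurj⟩ _ _ (fun p => rfl),
    ← Nat.card_eq_of_bijective φ ⟨hinj, hsurj⟩, Fintype.sum_prod_type] at hn
  simp [φ, Fin.sum_univ_four, Fin.sum_univ_two, hw3, hinv e h.oe, hinv (w * e) h.w_e_order,
    hinv (w ^ 2 * e) (H65.orderOf_mul_two h.ot h.oe h.t_comm_e
      (fun e1 => h.not_comm (e1 ▸ h.t_comm_w))),
    hinv (w ^ 3 * e) (h.e_mul_w ▸ h.oew)] at hn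
  linear_combination 8 * hn

/-- The equation from the class multiplication at `w`, when `O^{ew} = 1`. -/
theorem count_w (hb : Nat.card (fx O (e * w)) = 1) :
    Nat.card {g : G // IsConj (w ^ 2) g ∧ IsConj (w ^ 2) (g⁻¹ * w)} = 4 := by
  have hwe : w * e = w ^ 2 * (e * w) := by
    rw [h.e_mul_w, ← mul_assoc, ← pow_add, show 2 + 3 = 4 + 1 by norm_num, pow_add, h.w4, one_mul,
      pow_one]
  have hew3 : w ^ 3 * e = e * w := h.e_mul_w.symm
  have oe' : ∀ i : ℕ, orderOf (w ^ i * e) = 2 := by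
    intro i
    refine H26.orderOf_two_of_mul_self ?_ ?_
    · rw [show w ^ i * e * (w ^ i * e) = w ^ i * (e * w ^ i * e⁻¹) * (e * e) by group, ← conj_pow,
        h.inv, h.e2, mul_one, inv_pow, mul_inv_cancel]
    · intro hc
      apply h.not_comm
      rw [eq_inv_of_mul_eq_one_right hc]
      exact ((Commute.refl w).pow_left i).inv_left
  rw [show (4 : ℕ) = Nat.card (Fin 4) by simp]
  symm
  refine Nat.card_eq_of_bijective (fun i : Fin 4 =>
    (⟨w ^ (i : ℕ) * e, h.conj _ (oe' _), h.conj _ ?_⟩ :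
      {g : G // IsConj (w ^ 2) g ∧ IsConj (w ^ 2) (g⁻¹ * w)})) ⟨?_, ?_⟩
  · rw [H65.inv_eq_self (oe' _), mul_assoc, h.e_mul_w, ← mul_assoc, ← pow_add]
    exact oe' _
  · intro i j hij
    exact Fin.ext (pow_injOn_Iio_orderOf (x := w) (by simp [h.ow, i.2]) (by simp [h.ow, j.2])
      (mul_right_cancel (congrArg Subtype.val hij)))
  · rintro ⟨p, hp, hq⟩
    have hpo := (H65.orderOf_of_isConj hp).symm.trans h.ot
    have hqo := (H65.orderOf_of_isConj hq).symm.trans h.ot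
    have hpi := H65.inv_eq_self hpo
    rw [hpi] at hqo
    have hqq := H65.mul_self_eq_one hqo
    have hpt : Commute p (w ^ 2) := by
      have h1 : p * w * p = w⁻¹ := eq_inv_of_mul_eq_one_left (by rw [← hqq]; group)
      have h2 : p * w ^ 2 * p⁻¹ = w ^ 2 := by rw [← conj_pow, hpi, h1, inv_pow, h.t_inv]
      exact mul_inv_eq_iff_eq_mul.1 h2
    have hone : ∀ x ∈ fx O (e * w), x = 1 := fun x hx => by
      haveI := (Nat.card_eq_one_iff_unique.1 hb).1
      exact congrArg Subtype.val (Subsingleton.elim (⟨x, hx⟩ : fx O (e * w)) 1)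
    rcases h.invol_cases hpt hpo with rfl | ⟨x, hx, e1⟩ | ⟨x, hx, e1⟩
    · exfalso
      rw [← pow_succ] at hqo
      norm_num [orderOf_pow, h.ow] at hqo
    · rw [hone x hx, one_mul, one_mul] at e1
      rcases e1 with rfl | rfl
      · exact ⟨0, Subtype.ext (by simp)⟩
      · exact ⟨2, Subtype.ext (by simp)⟩
    · have hxe : Commute x e := mem_centralizer_singleton_iff.1 hx.2
      have hx1 : ∀ v : G, Commute x v → v * v = 1 → x * v * (x * v) = 1 → x = 1 := by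
        intro v hv hvv hxv
        rw [← sq, hv.mul_pow, sq x, sq v, hvv, mul_one] at hxv
        exact eq_one_of_sq h.odd hx.1 hxv
      rcases e1 with rfl | rfl
      · rw [mul_assoc x, h.ew_w] at hqq
        have h1 := hx1 (e * w ^ 2) (hxe.mul_right (h.le x hx.1))
          (by rw [← h.t_comm_e.eq, ← sq, h.t_comm_e.mul_pow, sq e, h.e2, mul_one, sq (w ^ 2), h.t2])
          hqq
        exact ⟨3, Subtype.ext (by simp [h1, hew3])⟩
      · rw [mul_assoc x, mul_assoc (w ^ 2), h.ew_w, ← h.t_comm_e.eq, ← mul_assoc (w ^ 2), h.t2,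
          one_mul] at hqq
        have h1 := hx1 e hxe h.e2 hqq
        exact ⟨1, Subtype.ext (by simp [h1, hwe])⟩

/-- With `O^{ew} = 1` the order is 2520, or 7560 with `|O^e| = 5`. -/
theorem card_of_one (S : Sylow 2 G) (hwS : w ∈ (S : Subgroup G)) (heS : e ∈ (S : Subgroup G))
    (eS : (S : Subgroup G) ≃* DihedralGroup 4) (hb : Nat.card (fx O (e * w)) = 1)
    (ha : 3 ≤ Nat.card (fx O e)) :
    (Nat.card G = 2520 ∧ Nat.card (fx O e) = 3) ∨
      (Nat.card G = 7560 ∧ Nat.card (fx O e) = 5) := by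
  classical
  haveI := Fintype.ofFinite G
  obtain ⟨M, hM⟩ := exists_maximal_two
  have hS8 : Nat.card ↥(S : Subgroup G) = 8 := by
    rw [Nat.card_congr eS.toEquiv, Nat.card_eq_fintype_card, DihedralGroup.card]
  have hI : IsPrimitiveRoot Complex.I (2 ^ (3 - 1)) := by
    rw [IsPrimitiveRoot.iff_orderOf]
    refine orderOf_eq_prime_pow (p := 2) (n := 1) ?_ ?_ <;> norm_num
  obtain ⟨-, χ1, χ2, χ3, χ', δ1, δ2, δ3, hδ1, hδ2, hδ3, -, n1, n2, n3, h12, h13, h23, -, hB, hval,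
    hρ⟩ := S4481.result M hM 3 le_rfl S ⟨eS⟩ w hwS (by rw [h.ow]; norm_num) Complex.I hI
  obtain ⟨hxne, hord⟩ := S4482.result M hM 3 le_rfl S w e hwS heS (by rw [h.ow]; norm_num) h.oe
    h.inv (h.closure_le_sylow hwS heS hS8)
    ⟨by rw [show (2 : ℕ) ^ (3 - 2) = 2 by norm_num]; exact h.conj e h.oe,
      by rw [show (2 : ℕ) ^ (3 - 2) = 2 by norm_num]; exact h.conj _ h.w_e_order⟩
    χ1 (by rw [hB]; exact Or.inr (Or.inl rfl)) n1 δ1 hδ1 (fun l h1 h2 => (hval l h1 h2).1)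
  rw [show (2 : ℕ) ^ (3 - 2) = 2 by norm_num] at hord
  rw [h.card_cent, h.card_cent_pair, h.card_cent_pair', h.card_split, hb] at hord
  obtain ⟨v11, v12, v13, -⟩ := hval 1 (by norm_num) (by norm_num)
  obtain ⟨v21, v22, v23, -⟩ := hval 2 (by norm_num) (by norm_num)
  norm_num at v11 v12 v13 v21 v22 v23
  have hrho := (hρ 1 (by simp) ⟨0, by norm_num⟩).1
  choose d hdp hd using fun χ : IrrCharacter G => IsIrr.exists_degree χ.2
  have hdeg : ∀ χ : IrrCharacter G, Cfsg.charDegree (χ : G → ℂ) = d χ := fun χ => by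
    simp [Cfsg.charDegree, hd χ]
  rw [hdeg] at hord hxne
  rw [hd, hd, hd] at hrho
  let one : IrrCharacter G := ⟨fun _ => 1, isIrrCharacter_one⟩
  have hne1 : ∀ χ : IrrCharacter G, (χ : G → ℂ) ≠ (fun _ => 1) → one ≠ χ := fun χ hχ he =>
    hχ (congrArg Subtype.val he).symm
  choose b hbv using fun χ : IrrCharacter G =>
    exists_int_four (IsIrr.isCharacter χ.2) h.w4 h.isConj_inv
  set F : Finset (IrrCharacter G) := {one, χ1, χ2, χ3} with hF
  have hcw : Nat.card ↥(centralizer ({w} : Set G)) = 4 := by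
    rw [← h.ow, ← Nat.card_zpowers]
    refine Nat.card_congr (Equiv.subtypeEquivRight fun k => ⟨fun hk =>
      h.cent k (mem_centralizer_singleton_iff.1 hk), fun hk => ?_⟩)
    obtain ⟨m, rfl⟩ := mem_zpowers_iff.1 hk
    exact mem_centralizer_singleton_iff.2 ((Commute.refl w).zpow_left m).eq
  have hFsum : ∀ f : IrrCharacter G → ℂ, ∑ χ ∈ F, f χ = f one + f χ1 + f χ2 + f χ3 := by
    intro f
    rw [hF, Finset.sum_insert, Finset.sum_insert, Finset.sum_pair h23, add_assoc, add_assoc]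
    · simp [h12, h13]
    · simp [hne1 _ n1, hne1 _ n2, hne1 _ n3]
  have hzero : ∀ χ, χ ∉ F → b χ = 0 := by
    have hbb : ∑ χ, b χ * b χ = 4 := by
      have hh := second_orthogonality_self w
      rw [hcw] at hh
      simp only [hbv, map_intCast] at hh
      exact_mod_cast hh
    have hF4 : ∑ χ ∈ F, b χ * b χ = 4 := by
      have e0 : (1 : ℂ) = b one := hbv one
      have e1 : (δ1 : ℂ) = b χ1 := v11.symm.trans (hbv χ1)
      have e2 : (δ2 : ℂ) = b χ2 := v12.symm.trans (hbv χ2)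
      have e3 : (δ3 : ℂ) = b χ3 := v13.symm.trans (hbv χ3)
      have h4 := hFsum fun χ => ((b χ * b χ : ℤ) : ℂ)
      rw [← Int.cast_sum] at h4
      push_cast at h4
      rw [← e0, ← e1, ← e2, ← e3] at h4
      rcases hδ1 with rfl | rfl <;> rcases hδ2 with rfl | rfl <;> rcases hδ3 with rfl | rfl <;>
        norm_num at h4 <;> exact_mod_cast h4
    intro χ hχ
    have h5 : ∑ x ∈ Finset.univ \ F, b x * b x = 0 := by
      have := Finset.sum_sdiff (f := fun x => b x * b x) (Finset.subset_univ F)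
      omega
    exact mul_self_eq_zero.1 ((Finset.sum_eq_zero_iff_of_nonneg fun x _ => mul_self_nonneg (b x)).1
      h5 χ (Finset.mem_sdiff.2 ⟨Finset.mem_univ _, hχ⟩))
  have hcc := class_count (w ^ 2) (w ^ 2) w
  rw [h.count_w hb, h.card_cent, h.card_split, hb,
    ← Finset.sum_subset (Finset.subset_univ F) (fun χ _ hχ => by
      rw [hbv χ, hzero χ hχ]; simp), hFsum] at hcc
  change ((8 * (Nat.card (fx O e) * 1) : ℕ) : ℂ) * ((8 * (Nat.card (fx O e) * 1) : ℕ) : ℂ) *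
      ((4 : ℕ) : ℂ) = (Nat.card G : ℂ) * ((1 : ℂ) * 1 * conj (1 : ℂ) / 1 + _ + _ + _) at hcc
  rw [v11, v12, v13, v21, v22, v23, hd, hd, hd] at hcc
  simp only [map_intCast, map_one] at hcc
  -- congruences
  obtain ⟨m1, e1⟩ := h.sylow_sum (IsIrr.isCharacter χ1.2)
  obtain ⟨m2, e2⟩ := h.sylow_sum (IsIrr.isCharacter χ2.2)
  obtain ⟨m3, e3⟩ := h.sylow_sum (IsIrr.isCharacter χ3.2)
  rw [hd, v11, v21] at e1
  rw [hd, v12, v22] at e2
  rw [hd, v13, v23] at e3
  have hodd : Nat.card (fx O e) % 2 = 1 :=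
    Nat.odd_iff.1 (odd_of_le (inf_le_left : fx O e ≤ O) h.odd)
  generalize Nat.card (fx O e) = a at *
  have hp1 := hdp χ1; have hp2 := hdp χ2; have hp3 := hdp χ3
  generalize d χ1 = x1 at *
  generalize d χ2 = x2 at *
  generalize d χ3 = x3 at *
  generalize Nat.card G = g at *
  have c1 : (x1 : ℤ) + 7 * δ1 = 8 * m1 := by
    have : (((x1 : ℤ) + 7 * δ1 : ℤ) : ℂ) = ((8 * (m1 : ℤ) : ℤ) : ℂ) := by
      push_cast; linear_combination e1
    exact_mod_cast this
  have c2 : (x2 : ℤ) - 3 * δ2 = 8 * m2 := by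
    have : (((x2 : ℤ) - 3 * δ2 : ℤ) : ℂ) = ((8 * (m2 : ℤ) : ℤ) : ℂ) := by
      push_cast; linear_combination e2
    exact_mod_cast this
  have c3 : (x3 : ℤ) - 3 * δ3 = 8 * m3 := by
    have : (((x3 : ℤ) - 3 * δ3 : ℤ) : ℂ) = ((8 * (m3 : ℤ) : ℤ) : ℂ) := by
      push_cast; linear_combination e3
    exact_mod_cast this
  have c4 : 1 + δ1 * (x1 : ℤ) = -δ2 * x2 - δ3 * x3 := by
    have : ((1 + δ1 * (x1 : ℤ) : ℤ) : ℂ) = ((-δ2 * x2 - δ3 * x3 : ℤ) : ℂ) := by
      push_cast; linear_combination hrho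
    exact_mod_cast this
  have hx1c : (x1 : ℂ) ≠ 0 := by exact_mod_cast (by omega : x1 ≠ 0)
  have hx2c : (x2 : ℂ) ≠ 0 := by exact_mod_cast (by omega : x2 ≠ 0)
  have hx3c : (x3 : ℂ) ≠ 0 := by exact_mod_cast (by omega : x3 ≠ 0)
  have hE1 : 256 * (a : ℤ) ^ 2 * ((δ1 * x1) * ((δ2 * x2) * (δ3 * x3))) =
      g * (((δ1 * x1) + 1) * ((δ2 * x2) * (δ3 * x3) - δ1 * x1)) := by
    have : ((256 * (a : ℤ) ^ 2 * ((δ1 * x1) * ((δ2 * x2) * (δ3 * x3))) : ℤ) : ℂ) =
        ((g * ((δ1 * x1) * ((δ2 * x2) * (δ3 * x3)) + (δ2 * x2) * (δ3 * x3) +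
          (δ1 * x1) * (δ3 * x3) + (δ1 * x1) * (δ2 * x2)) : ℤ) : ℂ) := by
      push_cast at hcc ⊢
      rcases hδ1 with rfl | rfl <;> rcases hδ2 with rfl | rfl <;> rcases hδ3 with rfl | rfl <;>
        push_cast at hcc ⊢ <;> field_simp at hcc ⊢ <;>
        first | linear_combination hcc | linear_combination -hcc
    rw [Int.cast_inj] at this
    linear_combination this + ((g : ℤ) * (δ1 * x1)) * c4
  have hE2 : (g : ℤ) * ((δ1 * x1) - 1) ^ 2 =
      64 * a * (a + 1) ^ 2 * (δ1 * x1) * ((δ1 * x1) + 1) := by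
    have : (((g : ℤ) * ((δ1 * x1) - 1) ^ 2 : ℤ) : ℚ) =
        ((64 * a * (a + 1) ^ 2 * (δ1 * x1) * ((δ1 * x1) + 1) : ℤ) : ℚ) := by
      have ha0 : (a : ℚ) ≠ 0 := by exact_mod_cast (by omega : a ≠ 0)
      rcases hδ1 with rfl | rfl <;> push_cast at hord ⊢ <;> field_simp at hord ⊢ <;>
        linear_combination hord / 16
    exact_mod_cast this
  generalize hX : δ1 * (x1 : ℤ) = X at *
  generalize hA : δ2 * (x2 : ℤ) = A at *
  generalize hB' : δ3 * (x3 : ℤ) = B at *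
  have hX8 : X % 8 = 1 := by rcases hδ1 with rfl | rfl <;> omega
  have hA8 : A % 8 = 3 := by rcases hδ2 with rfl | rfl <;> omega
  have hB8 : B % 8 = 3 := by rcases hδ3 with rfl | rfl <;> omega
  have hX1 : X ≠ 1 := by rcases hδ1 with rfl | rfl <;> omega
  have hsum : A + B = -(X + 1) := by linarith
  have hkey : 4 * (a : ℤ) * (A * B) * (X - 1) ^ 2 =
      ((a : ℤ) + 1) ^ 2 * (X + 1) ^ 2 * (A * B - X) := by
    have h1 : (64 * (a : ℤ) * X) * (4 * (a : ℤ) * (A * B) * (X - 1) ^ 2) =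
        (64 * (a : ℤ) * X) * (((a : ℤ) + 1) ^ 2 * (X + 1) ^ 2 * (A * B - X)) := by
      linear_combination (X - 1) ^ 2 * hE1 + (X + 1) * (A * B - X) * hE2
    exact mul_left_cancel₀ (mul_ne_zero (by omega) (by omega)) h1
  rcases degree_cases (a := (a : ℤ)) (by omega) (by omega) hX8 hX1 hA8 hB8 hsum hkey with
    ⟨ha', rfl⟩ | ⟨ha', rfl⟩ <;> rw [ha'] at hE2
  · left; exact ⟨by omega, by omega⟩
  · right; exact ⟨by omega, by omega⟩

end

end Setup

end Cfsg.Agent.H83.SmallCent
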